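import Groth.Prelude.Def_HTop
import Mathlib.AlgebraicGeometry.ValuativeCriterion
import Mathlib.AlgebraicGeometry.Morphisms.UniversallyOpen
import Mathlib.AlgebraicGeometry.PullbackCarrier

/-!
# Lifting of specializations along valuation rings
-/

universe w w' u

open CategoryTheory CategoryTheory.Limits AlgebraicGeometry IsLocalRing

namespace Groth.L28.VTop

/-- the generic point of the spectrum of a domain -/
def gen (V : CommRingCat.{u}) [IsDomain V] : ↥(Spec V) := ⟨⊥, Ideal.isPrime_bot⟩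

/-- the closed point of the spectrum of a local ring -/
def clo (V : CommRingCat.{u}) [IsLocalRing V] : ↥(Spec V) := closedPoint V

/-- a specialization is realised by a valuation ring -/
theorem exists_valuationRing_point {P : Scheme.{u}} {a b : ↥P} (h : a ⤳ b) :
    ∃ (W : CommRingCat.{u}) (_ : IsDomain W) (_ : ValuationRing W) (g : Spec W ⟶ P),
      g (gen W) = a ∧ g (clo W) = b := by
  let r := P.presheaf.stalkSpecializes h ≫ P.residue a
  obtain ⟨A, hA, hA_local⟩ := exists_factor_valuationRing r.hom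
  let r' : P.presheaf.stalk b ⟶ CommRingCat.of A :=
    CommRingCat.ofHom (r.hom.codRestrict A.toSubring hA)
  refine ⟨CommRingCat.of A, inferInstanceAs (IsDomain A), inferInstanceAs (ValuationRing A),
    Spec.map r' ≫ P.fromSpecStalk b, ?_, ?_⟩
  · have hgen : gen (CommRingCat.of A) =
        Spec.map (CommRingCat.ofHom (algebraMap A (P.residueField a))) (clo (P.residueField a)) := by
      refine PrimeSpectrum.ext ?_
      change (⊥ : Ideal A) = Ideal.comap (algebraMap A (P.residueField a)) (maximalIdeal _)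
      rw [maximalIdeal_eq_bot, ← RingHom.ker_eq_comap_bot]
      exact ((RingHom.injective_iff_ker_eq_bot _).1 Subtype.val_injective).symm
    have w : Spec.map (CommRingCat.ofHom (algebraMap A (P.residueField a))) ≫ Spec.map r' ≫ P.fromSpecStalk b =
        P.fromSpecResidueField a := by
      rw [Scheme.fromSpecResidueField, ← Scheme.SpecMap_stalkSpecializes_fromSpecStalk h]
      simp_rw [← Spec.map_comp_assoc]
      rfl
    rw [hgen, ← Scheme.Hom.comp_apply, w]
    exact Scheme.fromSpecResidueField_apply _ _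
  · have : Spec.map r' (clo (CommRingCat.of A)) = clo (P.presheaf.stalk b) :=
      comap_closedPoint (S := A) (r.hom.codRestrict A.toSubring hA)
    rw [Scheme.Hom.comp_apply, this]
    exact P.fromSpecStalk_closedPoint

lemma specializes_gen (V : CommRingCat.{u}) [IsDomain V] [IsLocalRing V] (x : ↥(Spec V)) : gen V ⤳ x :=
  (PrimeSpectrum.le_iff_specializes (gen V) x).1 (bot_le : (⊥ : Ideal V) ≤ x.asIdeal)

lemma specializes_closed (V : CommRingCat.{u}) [IsLocalRing V] (x : ↥(Spec V)) : x ⤳ clo V :=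
  IsLocalRing.specializes_closedPoint x

/-- an extension of valuation rings from a specialization over the two extreme points -/
theorem exists_ext_lift {V : CommRingCat.{u}} [IsDomain V] [ValuationRing V] {P : Scheme.{u}} (p : P ⟶ Spec V)
    {a b : ↥P} (h : a ⤳ b) (ha : p a = gen V) (hb : p b = clo V) :
    ∃ (W : CommRingCat.{u}) (_ : IsDomain W) (_ : ValuationRing W) (φ : V ⟶ W),
      HTop.IsExtVal V W φ ∧ ∃ g : Spec W ⟶ P, g ≫ p = Spec.map φ ∧ g (gen W) = a ∧ g (clo W) = b := by
  obtain ⟨W, iW, iW', g, hga, hgb⟩ := exists_valuationRing_point h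
  refine ⟨W, iW, iW', Spec.preimage (g ≫ p), ⟨?_, ?_⟩, g, (Spec.map_preimage _).symm, hga, hgb⟩
  · have h1 : Spec.map (Spec.preimage (g ≫ p)) (gen W) = gen V := by
      rw [Spec.map_preimage, Scheme.Hom.comp_apply, hga, ha]
    rw [RingHom.injective_iff_ker_eq_bot, RingHom.ker_eq_comap_bot]
    exact congrArg PrimeSpectrum.asIdeal h1
  · have h1 : Spec.map (Spec.preimage (g ≫ p)) (clo W) = clo V := by
      rw [Spec.map_preimage, Scheme.Hom.comp_apply, hgb, hb]
    exact ((local_hom_TFAE (Spec.preimage (g ≫ p)).hom).out 4 0 :).1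
      (congrArg PrimeSpectrum.asIdeal h1)

lemma map_gen {V W : CommRingCat.{u}} [IsDomain V] [ValuationRing V] [IsDomain W] [ValuationRing W] {φ : V ⟶ W}
    (hφ : HTop.IsExtVal V W φ) : Spec.map φ (gen W) = gen V := by
  refine PrimeSpectrum.ext ?_
  change Ideal.comap φ.hom ⊥ = ⊥
  rw [← RingHom.ker_eq_comap_bot]
  exact (RingHom.injective_iff_ker_eq_bot _).1 hφ.1

lemma map_closed {V W : CommRingCat.{u}} [IsDomain V] [ValuationRing V] [IsDomain W] [ValuationRing W] {φ : V ⟶ W}
    (hφ : HTop.IsExtVal V W φ) : Spec.map φ (clo W) = clo V := by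
  haveI := hφ.2
  exact comap_closedPoint φ.hom

lemma isExtVal_id (V : CommRingCat.{u}) [IsDomain V] [ValuationRing V] : HTop.IsExtVal V V (𝟙 V) :=
  ⟨fun _ _ h => h, ⟨fun _ h => h⟩⟩

lemma isExtVal_comp {U V W : CommRingCat.{u}} [IsDomain U] [ValuationRing U] [IsDomain V] [ValuationRing V]
    [IsDomain W] [ValuationRing W] {φ : U ⟶ V} {ψ : V ⟶ W} (h : HTop.IsExtVal U V φ) (h' : HTop.IsExtVal V W ψ) :
    HTop.IsExtVal U W (φ ≫ ψ) :=
  ⟨h'.1.comp h.1, ⟨fun a ha => h.2.map_nonunit a (h'.2.map_nonunit _ ha)⟩⟩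

/-- a morphism from a local spectrum factors through any open immersion hitting the closed point -/
theorem exists_lift_of_closedPoint {W : CommRingCat.{u}} [IsLocalRing W] {X Y : Scheme.{u}} (j : X ⟶ Y)
    [IsOpenImmersion j] (g : Spec W ⟶ Y) (h : g (clo W) ∈ Set.range j) :
    ∃ g' : Spec W ⟶ X, g' ≫ j = g := by
  refine ⟨IsOpenImmersion.lift j g ?_, IsOpenImmersion.lift_fac _ _ _⟩
  rintro _ ⟨x, rfl⟩
  exact ((IsLocalRing.specializes_closedPoint x).map g.continuous).mem_open j.isOpenEmbedding.isOpen_range h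

variable {T : Scheme.{u}}

/-- a surjective flat morphism lifts valuation rings -/
theorem exists_lift_flat {X : Scheme.{u}} (f : X ⟶ T) [Flat f] {V : CommRingCat.{u}} [IsDomain V] [ValuationRing V]
    (g : Spec V ⟶ T) {x : ↥X} (hx : f x = g (clo V)) :
    ∃ (W : CommRingCat.{u}) (_ : IsDomain W) (_ : ValuationRing W) (φ : V ⟶ W),
      HTop.IsExtVal V W φ ∧ ∃ g' : Spec W ⟶ X, g' ≫ f = Spec.map φ ≫ g := by
  obtain ⟨b, hb, -⟩ := Scheme.Pullback.exists_preimage_pullback (f := g) (g := f) (clo V) x hx.symm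
  obtain ⟨a, hab, ha⟩ := Flat.generalizingMap (pullback.fst g f) (a := b) (b := gen V)
    (by rw [hb]; exact specializes_gen V _)
  obtain ⟨W, iW, iW', φ, hφ, k, hk, -⟩ := exists_ext_lift (pullback.fst g f) hab ha hb
  refine ⟨W, iW, iW', φ, hφ, k ≫ pullback.snd g f, ?_⟩
  rw [Category.assoc, ← pullback.condition, ← Category.assoc, hk]

/-- a proper surjective morphism lifts valuation rings -/
theorem exists_lift_proper {X : Scheme.{u}} (f : X ⟶ T) [UniversallyClosed f] [Surjective f]
    {V : CommRingCat.{u}} [IsDomain V] [ValuationRing V] (g : Spec V ⟶ T) :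
    ∃ (W : CommRingCat.{u}) (_ : IsDomain W) (_ : ValuationRing W) (φ : V ⟶ W),
      HTop.IsExtVal V W φ ∧ ∃ g' : Spec W ⟶ X, g' ≫ f = Spec.map φ ≫ g := by
  obtain ⟨a, ha⟩ := (pullback.fst g f).surjective (gen V)
  obtain ⟨b, hab, hb⟩ := (pullback.fst g f).isClosedMap.specializingMap (a := a) (b := clo V)
    (by rw [ha]; exact specializes_gen V _)
  obtain ⟨W, iW, iW', φ, hφ, k, hk, -⟩ := exists_ext_lift (pullback.fst g f) hab ha hb
  refine ⟨W, iW, iW', φ, hφ, k ≫ pullback.snd g f, ?_⟩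
  rw [Category.assoc, ← pullback.condition, ← Category.assoc, hk]

/-- lifting of specializations from the lifting of valuation rings -/
theorem exists_specializes_of_hasValLift {E : PreZeroHypercover.{w} T} (hE : HTop.HasValLift E) {Z : Scheme.{u}}
    (g : Z ⟶ T) {a b : ↥Z} (h : a ⤳ b) :
    ∃ (i : E.I₀) (a' b' : ↥(pullback g (E.f i))), a' ⤳ b' ∧ pullback.fst g (E.f i) a' = a ∧
      pullback.fst g (E.f i) b' = b := by
  obtain ⟨V, iV, iV', g₀, ha, hb⟩ := exists_valuationRing_point h
  obtain ⟨W, iW, iW', φ, hφ, i, g', hg'⟩ := hE V (g₀ ≫ g)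
  let l : Spec W ⟶ pullback g (E.f i) := pullback.lift (Spec.map φ ≫ g₀) g' (by
    rw [Category.assoc]; exact hg'.symm)
  have hl : l ≫ pullback.fst g (E.f i) = Spec.map φ ≫ g₀ := pullback.lift_fst _ _ _
  refine ⟨i, l (gen W), l (clo W), (specializes_gen W _).map l.continuous, ?_, ?_⟩
  · rw [← Scheme.Hom.comp_apply, hl, Scheme.Hom.comp_apply, map_gen hφ, ha]
  · rw [← Scheme.Hom.comp_apply, hl, Scheme.Hom.comp_apply, map_closed hφ, hb]

/-- lifting of valuation rings from the lifting of specializations -/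
theorem hasValLift_of_specializes {E : PreZeroHypercover.{w} T}
    (hE : ∀ (Z : Scheme.{u}) (g : Z ⟶ T) (a b : ↥Z), a ⤳ b →
      ∃ (i : E.I₀) (a' b' : ↥(pullback g (E.f i))), a' ⤳ b' ∧ pullback.fst g (E.f i) a' = a ∧
        pullback.fst g (E.f i) b' = b) : HTop.HasValLift E := by
  intro V _ _ g
  obtain ⟨i, a, b, hab, ha, hb⟩ := hE (Spec V) g _ _ (specializes_gen V (clo V))
  obtain ⟨W, iW, iW', φ, hφ, k, hk, -⟩ := exists_ext_lift (pullback.fst g (E.f i)) hab ha hb
  refine ⟨W, iW, iW', φ, hφ, i, k ≫ pullback.snd g (E.f i), ?_⟩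
  rw [Category.assoc, ← pullback.condition, ← Category.assoc, hk]

end Groth.L28.VTop
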