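import Groth.Agent.L28.VTop.Cover
import Mathlib.AlgebraicGeometry.Morphisms.Finite
import Mathlib.AlgebraicGeometry.Morphisms.Proper
import Mathlib.AlgebraicGeometry.Limits

/-!
# Finite jointly surjective families of proper morphisms are V and ph coverings
-/

universe w w' u

open CategoryTheory CategoryTheory.Limits AlgebraicGeometry IsLocalRing

namespace Groth.L28.VTop

variable {T : Scheme.{u}}

/-- a finite family of quasi-compact morphisms lifting valuations is a V covering -/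
theorem isVCover_of_hasValLift (E : PreZeroHypercover.{w} T) [Finite E.I₀] (hqc : ∀ i, QuasiCompact (E.f i))
    (hf : HTop.HasValLift E) : HTop.IsVCover E := by
  intro U
  choose W hW hxW hWU using fun (i : E.I₀) (x : ↥(E.f i ⁻¹ᵁ (U : T.Opens))) =>
    exists_isAffineOpen_mem_and_subset (X := E.X i) (x := x.1) (U := E.f i ⁻¹ᵁ (U : T.Opens)) x.2
  choose t ht using fun i => haveI := hqc i
    ((E.f i).isCompact_preimage U.2.isCompact).elim_finite_subcover (fun x => (W i x : Set (E.X i)))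
    (fun x => (W i x).isOpen) (fun x hx => Set.mem_iUnion.2 ⟨⟨x, hx⟩, hxW i _⟩)
  haveI : Finite (Σ i : E.I₀, ↥(t i)) := inferInstance
  obtain ⟨n, ⟨e⟩⟩ := Finite.exists_equiv_fin (Σ i : E.I₀, ↥(t i))
  let F : PreZeroHypercover.{0} ((U : T.Opens) : Scheme.{u}) :=
    { I₀ := Fin n
      X := fun j => (W (e.symm j).1 (e.symm j).2.1 : Scheme.{u})
      f := fun j => (E.f (e.symm j).1).resLE (U : T.Opens) (W (e.symm j).1 (e.symm j).2.1) (hWU _ _) }
  have hfac : ∀ j, F.f j ≫ (U : T.Opens).ι = (W (e.symm j).1 (e.symm j).2.1).ι ≫ E.f (e.symm j).1 :=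
    fun j => Scheme.Hom.resLE_comp_ι _ _
  refine ⟨F, ⟨U.2, inferInstanceAs (Finite (Fin n)), fun j => hW _ _, ?_⟩,
    fun j => ⟨(e.symm j).1, (W (e.symm j).1 (e.symm j).2.1).ι, (hfac j).symm⟩⟩
  intro V _ _ g
  obtain ⟨R, iR, iR', φ, hφ, i, g', hg'⟩ := hf V (g ≫ (U : T.Opens).ι)
  have hmem : g' (clo R) ∈ (E.f i ⁻¹ᵁ (U : T.Opens) : Set (E.X i)) := by
    change E.f i (g' (clo R)) ∈ (U : T.Opens)
    rw [← Scheme.Hom.comp_apply, hg', ← Category.assoc]
    exact ((Spec.map φ ≫ g) (clo R)).2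
  obtain ⟨x, hx, hxm⟩ := Set.mem_iUnion₂.1 (ht i hmem)
  obtain ⟨j, hj⟩ : ∃ j, e.symm j = ⟨i, ⟨x, hx⟩⟩ := e.symm.surjective _
  suffices key : ∀ s : (Σ i : E.I₀, ↥(t i)), s = ⟨i, ⟨x, hx⟩⟩ →
      ∃ g'' : Spec R ⟶ (W s.1 s.2 : Scheme.{u}), g'' ≫ (W s.1 s.2).ι ≫ E.f s.1 = g' ≫ E.f i by
    obtain ⟨g'', hg''⟩ := key _ hj
    refine ⟨R, iR, iR', φ, hφ, j, g'', ?_⟩
    rw [← cancel_mono (U : T.Opens).ι, Category.assoc, hfac, hg'', hg', Category.assoc]
  rintro s rfl
  obtain ⟨g'', hg''⟩ := exists_lift_of_closedPoint (W i ⟨x.1, x.2⟩).ι g' (by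
    rw [Scheme.Opens.range_ι]; exact hxm)
  exact ⟨g'', by rw [← Category.assoc, hg'']⟩

/-- a jointly surjective family of universally closed morphisms lifts valuations -/
theorem hasValLift_of_universallyClosed (E : PreZeroHypercover.{w} T) (hE : ∀ i, UniversallyClosed (E.f i))
    (hs : ∀ t : T, ∃ (i : E.I₀) (x : E.X i), E.f i x = t) : HTop.HasValLift E := by
  intro V _ _ g
  obtain ⟨i, x, hx⟩ := hs (g (gen V))
  haveI := hE i
  obtain ⟨a, ha, -⟩ := Scheme.Pullback.exists_preimage_pullback (f := g) (g := E.f i) (gen V) x hx.symm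
  obtain ⟨b, hab, hb⟩ := (pullback.fst g (E.f i)).isClosedMap.specializingMap (a := a) (b := clo V)
    (by rw [ha]; exact specializes_gen V _)
  obtain ⟨W, iW, iW', φ, hφ, k, hk, -⟩ := exists_ext_lift (pullback.fst g (E.f i)) hab ha hb
  refine ⟨W, iW, iW', φ, hφ, i, k ≫ pullback.snd g (E.f i), ?_⟩
  rw [Category.assoc, ← pullback.condition, ← Category.assoc, hk]

/-- a finite jointly surjective family of universally closed morphisms is a V covering -/
theorem isVCover_of_universallyClosed (E : PreZeroHypercover.{w} T) [Finite E.I₀]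
    (hE : ∀ i, UniversallyClosed (E.f i)) (hs : ∀ t : T, ∃ (i : E.I₀) (x : E.X i), E.f i x = t) :
    HTop.IsVCover E :=
  isVCover_of_hasValLift E (fun i => haveI := hE i; inferInstance) (hasValLift_of_universallyClosed E hE hs)

/-- the two member family -/
@[simps]
def pair {A B : Scheme.{u}} (f : A ⟶ T) (g : B ⟶ T) : PreZeroHypercover.{0} T where
  I₀ := Bool
  X b := Bool.rec B A b
  f b := Bool.rec (motive := fun b => (Bool.rec B A b : Scheme.{u}) ⟶ T) g f b

instance {A B : Scheme.{u}} (f : A ⟶ T) (g : B ⟶ T) : Finite (pair f g).I₀ := inferInstanceAs (Finite Bool)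

variable {A B : Scheme.{u}} (f : A ⟶ T) (g : B ⟶ T)

theorem isHCover_pair [UniversallyClosed f] [UniversallyClosed g] [LocallyOfFinitePresentation f]
    [LocallyOfFinitePresentation g] (hs : ∀ t : T, t ∈ Set.range f ∨ t ∈ Set.range g) :
    HTop.IsHCover (pair f g) := by
  refine ⟨fun b => by cases b <;> assumption,
    isVCover_of_universallyClosed _ (fun b => by cases b <;> assumption) fun t => ?_⟩
  rcases hs t with ⟨x, hx⟩ | ⟨x, hx⟩
  exacts [⟨true, x, hx⟩, ⟨false, x, hx⟩]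

theorem isProper_coprodDesc [IsProper f] [IsProper g] : IsProper (coprod.desc f g) := by
  haveI : IsProper (coprod.map f g) := IsZariskiLocalAtTarget.coprodMap (P := @IsProper) f g ‹_› ‹_›
  haveI : IsProper (coprod.desc (𝟙 T) (𝟙 T)) := inferInstance
  have : coprod.desc f g = coprod.map f g ≫ coprod.desc (𝟙 T) (𝟙 T) := by
    ext <;> simp
  rw [this]
  infer_instance

set_option backward.isDefEq.respectTransparency false in
theorem isPhCover_pair [IsProper f] [IsProper g] (hs : ∀ t : T, t ∈ Set.range f ∨ t ∈ Set.range g) :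
    HTop.IsPhCover (pair f g) := by
  refine ⟨fun b => Bool.rec (motive := fun b => LocallyOfFiniteType ((pair f g).f b))
    (inferInstance : LocallyOfFiniteType g) (inferInstance : LocallyOfFiniteType f) b, fun U => ?_⟩
  haveI : IsAffine ((U : T.Opens) : Scheme.{u}) := U.2
  let Q := coprod.desc f g
  haveI : IsProper Q := isProper_coprodDesc f g
  haveI : Surjective Q := ⟨fun t => by
    rcases hs t with ⟨x, hx⟩ | ⟨x, hx⟩
    · exact ⟨(coprod.inl : A ⟶ A ⨿ B) x, by rw [← Scheme.Hom.comp_apply, coprod.inl_desc, hx]⟩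
    · exact ⟨(coprod.inr : B ⟶ A ⨿ B) x, by rw [← Scheme.Hom.comp_apply, coprod.inr_desc, hx]⟩⟩
  let Qu := Q ∣_ (U : T.Opens)
  haveI : IsProper Qu := IsZariskiLocalAtTarget.restrict ‹IsProper Q› _
  haveI : Surjective Qu := IsZariskiLocalAtTarget.restrict ‹Surjective Q› _
  have hloc : ∀ y : ↥(Q ⁻¹ᵁ (U : T.Opens)), ∃ (W : (A ⨿ B).Opens) (b : Bool)
      (k : (W : Scheme.{u}) ⟶ (pair f g).X b),
      IsAffineOpen W ∧ y.1 ∈ W ∧ W ≤ Q ⁻¹ᵁ (U : T.Opens) ∧ k ≫ (pair f g).f b = W.ι ≫ Q := by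
    intro y
    obtain ⟨(a | a), ha⟩ := (coprodMk A B).surjective y.1
    · rw [coprodMk_inl] at ha
      obtain ⟨W, hW, hyW, hWs⟩ := exists_isAffineOpen_mem_and_subset (X := A ⨿ B) (x := y.1)
        (U := (coprod.inl : A ⟶ A ⨿ B).opensRange ⊓ Q ⁻¹ᵁ (U : T.Opens)) ⟨⟨a, ha⟩, y.2⟩
      refine ⟨W, true, IsOpenImmersion.lift (coprod.inl : A ⟶ A ⨿ B) W.ι (by
        rw [Scheme.Opens.range_ι]; exact fun z hz => (hWs hz).1), hW, hyW, fun z hz => (hWs hz).2, ?_⟩
      show _ ≫ f = _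
      rw [← coprod.inl_desc f g, IsOpenImmersion.lift_fac_assoc]
    · rw [coprodMk_inr] at ha
      obtain ⟨W, hW, hyW, hWs⟩ := exists_isAffineOpen_mem_and_subset (X := A ⨿ B) (x := y.1)
        (U := (coprod.inr : B ⟶ A ⨿ B).opensRange ⊓ Q ⁻¹ᵁ (U : T.Opens)) ⟨⟨a, ha⟩, y.2⟩
      refine ⟨W, false, IsOpenImmersion.lift (coprod.inr : B ⟶ A ⨿ B) W.ι (by
        rw [Scheme.Opens.range_ι]; exact fun z hz => (hWs hz).1), hW, hyW, fun z hz => (hWs hz).2, ?_⟩
      show _ ≫ g = _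
      rw [← coprod.inr_desc f g, IsOpenImmersion.lift_fac_assoc]
  choose W b k hW hyW hWU hk using hloc
  obtain ⟨t, ht⟩ := (Q.isCompact_preimage U.2.isCompact).elim_finite_subcover (fun y => (W y : Set ↑(A ⨿ B)))
    (fun y => (W y).isOpen) (fun y hy => Set.mem_iUnion.2 ⟨⟨y, hy⟩, hyW _⟩)
  let e := t.equivFin.symm
  let F : PreZeroHypercover.{0} ((U : T.Opens) : Scheme.{u}) :=
    { I₀ := Fin t.card
      X := fun j => (W (e j) : Scheme.{u})
      f := fun j => (A ⨿ B).homOfLE (hWU (e j)) ≫ Qu }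
  refine ⟨F, ⟨U.2, inferInstanceAs (Finite (Fin t.card)), fun j => hW _, _, Qu,
    fun j => (A ⨿ B).homOfLE (hWU (e j)), inferInstance, inferInstance, fun j => inferInstance,
    fun j => rfl, fun y => ?_⟩, fun j => ⟨b (e j), k (e j), ?_⟩⟩
  · obtain ⟨z, hz, hym⟩ := Set.mem_iUnion₂.1 (ht y.2)
    refine ⟨t.equivFin ⟨z, hz⟩, ⟨y.1, by simpa [e] using hym⟩, Subtype.ext ?_⟩
    exact Scheme.homOfLE_apply _ _
  · show _ = ((A ⨿ B).homOfLE _ ≫ Qu) ≫ (U : T.Opens).ι
    rw [hk, Category.assoc, morphismRestrict_ι, Scheme.homOfLE_ι_assoc]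

end Groth.L28.VTop
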