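import Groth.Agent.L28.VTop.Val
import Mathlib.AlgebraicGeometry.AffineScheme
import Mathlib.AlgebraicGeometry.Morphisms.QuasiCompact
import Mathlib.AlgebraicGeometry.Sites.Fpqc
import Mathlib.AlgebraicGeometry.Cover.QuasiCompact

/-!
# V coverings: pullback, composition and basic examples
-/

universe w w' u

open CategoryTheory CategoryTheory.Limits AlgebraicGeometry IsLocalRing

namespace Groth.L28.VTop

variable {T U U' : Scheme.{u}}

lemma hasValLift_bind {E : PreZeroHypercover.{w} T} {F : ∀ i, PreZeroHypercover.{w'} (E.X i)}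
    (hE : HTop.HasValLift E) (hF : ∀ i, HTop.HasValLift (F i)) : HTop.HasValLift (E.bind F) := by
  intro V _ _ g
  obtain ⟨W, iW, iW', φ, hφ, i, g', hg'⟩ := hE V g
  obtain ⟨W₂, iW₂, iW₂', ψ, hψ, j, g'', hg''⟩ := hF i W g'
  refine ⟨W₂, iW₂, iW₂', φ ≫ ψ, isExtVal_comp hφ hψ, ⟨i, j⟩, g'', ?_⟩
  change g'' ≫ (F i).f j ≫ E.f i = _
  rw [← Category.assoc, hg'', Category.assoc, hg', Spec.map_comp, Category.assoc]

lemma hasValLift_pullback₁ (g : U ⟶ T) {E : PreZeroHypercover.{w} T} (hE : HTop.HasValLift E) :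
    HTop.HasValLift (E.pullback₁ g) := by
  intro V _ _ k
  obtain ⟨W, iW, iW', φ, hφ, i, g', hg'⟩ := hE V (k ≫ g)
  refine ⟨W, iW, iW', φ, hφ, i, pullback.lift (Spec.map φ ≫ k) g' (by rw [Category.assoc]; exact hg'.symm), ?_⟩
  exact pullback.lift_fst _ _ _

lemma isStandardV_bind {E : PreZeroHypercover.{w} T} {F : ∀ i, PreZeroHypercover.{w'} (E.X i)}
    (hE : HTop.IsStandardV E) (hF : ∀ i, HTop.IsStandardV (F i)) : HTop.IsStandardV (E.bind F) where
  isAffine := hE.isAffine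
  finite_index :=
    haveI := hE.finite_index
    haveI := fun i => (hF i).finite_index
    inferInstanceAs (Finite (Σ i : E.I₀, (F i).I₀))
  isAffine_obj ij := (hF ij.1).isAffine_obj ij.2
  lift := hasValLift_bind hE.lift fun i => (hF i).lift

lemma isAffine_pullback_obj [IsAffine U] [IsAffine T] {X : Scheme.{u}} [IsAffine X] (g : U ⟶ T) (f : X ⟶ T) :
    IsAffine (pullback g f) := inferInstance

lemma isStandardV_pullback₁ [IsAffine U] (g : U ⟶ T) {E : PreZeroHypercover.{w} T} (hE : HTop.IsStandardV E) :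
    HTop.IsStandardV (E.pullback₁ g) where
  isAffine := ‹_›
  finite_index := hE.finite_index
  isAffine_obj i :=
    haveI := hE.isAffine
    haveI := hE.isAffine_obj i
    isAffine_pullback_obj g (E.f i)
  lift := hasValLift_pullback₁ g hE.lift

/-- `E` can be refined by a standard V covering after pullback by `g` -/
def Refinable (g : U ⟶ T) (E : PreZeroHypercover.{w} T) : Prop :=
  ∃ F : PreZeroHypercover.{0} U, HTop.IsStandardV F ∧ HTop.RefinesOver g F E

lemma Refinable.comp [IsAffine U'] {g : U ⟶ T} {E : PreZeroHypercover.{w} T} (h : Refinable g E) (k : U' ⟶ U) :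
    Refinable (k ≫ g) E := by
  obtain ⟨F, hF, href⟩ := h
  refine ⟨F.pullback₁ k, isStandardV_pullback₁ k hF, fun (j : F.I₀) => ?_⟩
  obtain ⟨i, h, hh⟩ := href j
  refine ⟨i, pullback.snd k (F.f j) ≫ h, ?_⟩
  have key : (pullback.snd k (F.f j) ≫ h) ≫ E.f i = pullback.fst k (F.f j) ≫ k ≫ g := by
    rw [Category.assoc, hh, ← Category.assoc, ← pullback.condition, Category.assoc]
  exact key

/-- the family given by finitely many opens -/
@[simps]
noncomputable def openFamily {n : ℕ} (W : Fin n → U.Opens) : PreZeroHypercover.{0} U where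
  I₀ := Fin n
  X i := W i
  f i := (W i).ι

lemma isStandardV_openFamily [IsAffine U] {n : ℕ} (W : Fin n → U.Opens) (hW : ∀ i, IsAffineOpen (W i))
    (hcov : ∀ x : U, ∃ i, x ∈ W i) : HTop.IsStandardV (openFamily W) where
  isAffine := ‹_›
  finite_index := inferInstanceAs (Finite (Fin n))
  isAffine_obj i := hW i
  lift := by
    intro V _ _ g
    obtain ⟨i, hi⟩ := hcov (g (clo V))
    obtain ⟨g', hg'⟩ := exists_lift_of_closedPoint (W i).ι g (by rw [Scheme.Opens.range_ι]; exact hi)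
    refine ⟨V, inferInstance, inferInstance, 𝟙 V, isExtVal_id V, i, g', ?_⟩
    rw [Spec.map_id, Category.id_comp]
    exact hg'

lemma refinable_of_local [IsAffine U] (g : U ⟶ T) (E : PreZeroHypercover.{w} T)
    (h : ∀ x : U, ∃ W : U.Opens, IsAffineOpen W ∧ x ∈ W ∧ Refinable (W.ι ≫ g) E) : Refinable g E := by
  choose W hW hxW hF using h
  obtain ⟨t, ht⟩ := isCompact_univ.elim_finite_subcover (fun x => (W x : Set U)) (fun x => (W x).isOpen)
    (fun x _ => Set.mem_iUnion.2 ⟨x, hxW x⟩)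
  let e := t.equivFin.symm
  choose F hF href using hF
  refine ⟨(openFamily fun i => W (e i)).bind fun i => F (e i),
    isStandardV_bind (isStandardV_openFamily _ (fun i => hW _) fun x => ?_) fun i => hF _, ?_⟩
  · obtain ⟨y, hy, hxy⟩ := Set.mem_iUnion₂.1 (ht (Set.mem_univ x))
    exact ⟨t.equivFin ⟨y, hy⟩, by simpa [e] using hxy⟩
  · rintro ⟨i, j⟩
    obtain ⟨k, h, hh⟩ := href _ j
    exact ⟨k, h, hh.trans (Category.assoc _ _ _).symm⟩

lemma refinable_of_isVCover [IsAffine U] {E : PreZeroHypercover.{w} T} (hE : HTop.IsVCover E) (g : U ⟶ T) :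
    Refinable g E := by
  refine refinable_of_local g E fun x => ?_
  obtain ⟨V, hV, hxV, -⟩ := exists_isAffineOpen_mem_and_subset (X := T) (x := g x) (U := ⊤) trivial
  obtain ⟨W, hW, hxW, hWV⟩ := exists_isAffineOpen_mem_and_subset (X := U) (x := x) (U := g ⁻¹ᵁ V) hxV
  haveI : IsAffine (W : Scheme.{u}) := hW
  obtain ⟨F, hF⟩ := hE ⟨V, hV⟩
  let k : (W : Scheme.{u}) ⟶ (V : Scheme.{u}) := g.resLE V W hWV
  refine ⟨W, hW, hxW, ?_⟩
  rw [show W.ι ≫ g = k ≫ V.ι from (g.resLE_comp_ι hWV).symm]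
  exact Refinable.comp (show Refinable V.ι E from ⟨F, hF⟩) k

theorem isVCover_pullback₁ {T' : Scheme.{u}} (g : T' ⟶ T) {E : PreZeroHypercover.{w} T} (hE : HTop.IsVCover E) :
    HTop.IsVCover (E.pullback₁ g) := by
  intro U
  haveI : IsAffine ((U : T'.Opens) : Scheme.{u}) := U.2
  obtain ⟨F, hF, href⟩ := refinable_of_isVCover hE ((U : T'.Opens).ι ≫ g)
  refine ⟨F, hF, fun j => ?_⟩
  obtain ⟨i, h, hh⟩ := href j
  exact ⟨i, pullback.lift (F.f j ≫ (U : T'.Opens).ι) h (by rw [hh, Category.assoc]), pullback.lift_fst _ _ _⟩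

theorem isVCover_bind {E : PreZeroHypercover.{w} T} (hE : HTop.IsVCover E) {F : ∀ i, PreZeroHypercover.{w'} (E.X i)}
    (hF : ∀ i, HTop.IsVCover (F i)) : HTop.IsVCover (E.bind F) := by
  intro U
  obtain ⟨G, hG, href⟩ := hE U
  choose i h hh using href
  have key : ∀ j, Refinable (h j) (F (i j)) := fun j =>
    haveI := hG.isAffine_obj j
    refinable_of_isVCover (hF (i j)) (h j)
  choose H hH hHref using key
  refine ⟨G.bind H, isStandardV_bind hG hH, ?_⟩
  rintro ⟨j, l⟩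
  obtain ⟨m, k, hk⟩ := hHref j l
  refine ⟨⟨i j, m⟩, k, ?_⟩
  change k ≫ (F (i j)).f m ≫ E.f (i j) = ((H j).f l ≫ G.f j) ≫ _
  rw [← Category.assoc, hk, Category.assoc, hh, Category.assoc]

/-- a finite flat family of affines covering an affine lifts valuations -/
theorem isStandardV_of_flat [IsAffine T] (E : PreZeroHypercover.{w} T) (hfin : Finite E.I₀)
    (haff : ∀ j, IsAffine (E.X j)) (hflat : ∀ j, Flat (E.f j))
    (hsurj : ∀ t : T, ∃ (j : E.I₀) (x : E.X j), E.f j x = t) : HTop.IsStandardV E where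
  isAffine := ‹_›
  finite_index := hfin
  isAffine_obj := haff
  lift := by
    intro V _ _ g
    obtain ⟨j, x, hx⟩ := hsurj (g (clo V))
    haveI := hflat j
    obtain ⟨W, iW, iW', φ, hφ, g', hg'⟩ := exists_lift_flat (E.f j) g hx
    exact ⟨W, iW, iW', φ, hφ, j, g', hg'⟩

theorem isStandardV_of_isStandardPh {E : PreZeroHypercover.{w} T} (hE : HTop.IsStandardPh E) :
    HTop.IsStandardV E where
  isAffine := hE.isAffine
  finite_index := hE.finite_index
  isAffine_obj := hE.isAffine_obj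
  lift := by
    obtain ⟨X, f, ι, hf, hs, hι, hcomm, hcov⟩ := hE.exists_proper
    intro V _ _ g
    obtain ⟨W, iW, iW', φ, hφ, g', hg'⟩ := exists_lift_proper f g
    obtain ⟨j, hj⟩ := hcov (g' (clo W))
    haveI := hι j
    obtain ⟨g'', hg''⟩ := exists_lift_of_closedPoint (ι j) g' hj
    exact ⟨W, iW, iW', φ, hφ, j, g'', by rw [← hcomm j, ← Category.assoc, hg'', hg']⟩

theorem isStandardPh_pullback₁ [IsAffine U] (g : U ⟶ T) {E : PreZeroHypercover.{w} T} (hE : HTop.IsStandardPh E) :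
    HTop.IsStandardPh (E.pullback₁ g) where
  isAffine := ‹_›
  finite_index := hE.finite_index
  isAffine_obj i :=
    haveI := hE.isAffine
    haveI := hE.isAffine_obj i
    isAffine_pullback_obj g (E.f i)
  exists_proper := by
    obtain ⟨X, f, ι, hf, hs, hι, hcomm, hcov⟩ := hE.exists_proper
    have hl : ∀ i, pullback.fst g (E.f i) ≫ g = (pullback.snd g (E.f i) ≫ ι i) ≫ f := fun i => by
      rw [Category.assoc, hcomm, pullback.condition]
    have sq : ∀ i, IsPullback (pullback.snd g (E.f i))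
        (pullback.lift (pullback.fst g (E.f i)) (pullback.snd g (E.f i) ≫ ι i) (hl i)) (ι i)
        (pullback.snd g f) := fun i => by
      refine IsPullback.of_bot (v₂₁ := pullback.fst g f) (v₂₂ := f) (h₃₁ := g) ?_ ?_
        (IsPullback.of_hasPullback g f).flip
      · rw [pullback.lift_fst, hcomm]
        exact (IsPullback.of_hasPullback g (E.f i)).flip
      · exact (pullback.lift_snd _ _ _).symm
    refine ⟨pullback g f, pullback.fst g f, fun i => pullback.lift (pullback.fst g (E.f i))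
      (pullback.snd g (E.f i) ≫ ι i) (hl i), inferInstance, inferInstance, ?_, fun i => pullback.lift_fst _ _ _, ?_⟩
    · exact fun i => MorphismProperty.of_isPullback (sq i) (hι i)
    · intro p
      obtain ⟨i, y, hy⟩ := hcov (pullback.snd g f p)
      obtain ⟨z, -, hz⟩ := Scheme.exists_preimage_of_isPullback (sq i) y p hy
      exact ⟨i, z, hz⟩

theorem isVCover_of_fpqc (E : PreZeroHypercover.{w} T) [QuasiCompactCover E] (hflat : ∀ i, Flat (E.f i)) :
    HTop.IsVCover E := by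
  intro U
  obtain ⟨n, i, V, hV, hVU⟩ := QuasiCompactCover.exists_isAffineOpen_of_isCompact E U.2.isCompact
  let F : PreZeroHypercover.{0} ((U : T.Opens) : Scheme.{u}) :=
    { I₀ := Fin n
      X := fun j => (V j : Scheme.{u})
      f := fun j => IsOpenImmersion.lift (U : T.Opens).ι ((V j).ι ≫ E.f (i j)) (by
        rw [Scheme.Opens.range_ι]
        rintro _ ⟨x, rfl⟩
        rw [← hVU]
        exact Set.mem_iUnion.2 ⟨j, x.1, x.2, rfl⟩) }
  have hfac : ∀ j, F.f j ≫ (U : T.Opens).ι = (V j).ι ≫ E.f (i j) := fun j => IsOpenImmersion.lift_fac _ _ _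
  refine ⟨F, ⟨U.2, inferInstanceAs (Finite (Fin n)), hV, ?_⟩, fun j => ⟨i j, (V j).ι, (hfac j).symm⟩⟩
  intro W _ _ g
  obtain ⟨j, x, hxV, hx⟩ : ∃ j, ∃ x ∈ V j, E.f (i j) x = (g ≫ (U : T.Opens).ι) (clo W) := by
    have : (g ≫ (U : T.Opens).ι) (clo W) ∈ (U : T.Opens) := (g (clo W)).2
    rw [← SetLike.mem_coe, ← hVU, Set.mem_iUnion] at this
    exact this
  haveI := hflat (i j)
  obtain ⟨W', iW, iW', φ, hφ, g', hg'⟩ :=
    exists_lift_flat ((V j).ι ≫ E.f (i j)) (g ≫ (U : T.Opens).ι) (x := (⟨x, hxV⟩ : ↥(V j))) hx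
  refine ⟨W', iW, iW', φ, hφ, j, g', ?_⟩
  rw [← cancel_mono (U : T.Opens).ι, Category.assoc, hfac, hg', Category.assoc]

/-- a finite family of affine opens covering a quasi-compact preimage -/
theorem isVCover_singleton_of_hasValLift {X : Scheme.{u}} (f : X ⟶ T) [QuasiCompact f]
    (hf : HTop.HasValLift (PreZeroHypercover.singleton.{w} f)) :
    HTop.IsVCover (PreZeroHypercover.singleton.{w} f) := by
  intro U
  choose W hW hxW hWU using fun x : ↥(f ⁻¹ᵁ (U : T.Opens)) =>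
    exists_isAffineOpen_mem_and_subset (X := X) (x := x.1) (U := f ⁻¹ᵁ (U : T.Opens)) x.2
  obtain ⟨t, ht⟩ := (f.isCompact_preimage U.2.isCompact).elim_finite_subcover (fun x => (W x : Set X))
    (fun x => (W x).isOpen) (fun x hx => Set.mem_iUnion.2 ⟨⟨x, hx⟩, hxW _⟩)
  let e := t.equivFin.symm
  let F : PreZeroHypercover.{0} ((U : T.Opens) : Scheme.{u}) :=
    { I₀ := Fin t.card
      X := fun j => (W (e j) : Scheme.{u})
      f := fun j => f.resLE (U : T.Opens) (W (e j)) (hWU _) }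
  have hfac : ∀ j, F.f j ≫ (U : T.Opens).ι = (W (e j)).ι ≫ f := fun j => Scheme.Hom.resLE_comp_ι _ _
  refine ⟨F, ⟨U.2, inferInstanceAs (Finite (Fin t.card)), fun j => hW _, ?_⟩,
    fun j => ⟨PUnit.unit, (W (e j)).ι, (hfac j).symm⟩⟩
  intro V _ _ g
  obtain ⟨R, iR, iR', φ, hφ, _, g', hg'⟩ := hf V (g ≫ (U : T.Opens).ι)
  obtain ⟨g', hg'⟩ : ∃ k : Spec R ⟶ X, k ≫ f = Spec.map φ ≫ g ≫ (U : T.Opens).ι := ⟨g', hg'⟩
  have hmem : g' (clo R) ∈ (f ⁻¹ᵁ (U : T.Opens) : Set X) := by
    change f (g' (clo R)) ∈ (U : T.Opens)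
    rw [← Scheme.Hom.comp_apply, hg', ← Category.assoc]
    exact ((Spec.map φ ≫ g) (clo R)).2
  obtain ⟨x, hx, hxm⟩ := Set.mem_iUnion₂.1 (ht hmem)
  have hxm' : g' (clo R) ∈ Set.range (W (e (t.equivFin ⟨x, hx⟩))).ι := by
    rw [Scheme.Opens.range_ι]; simpa [e] using hxm
  obtain ⟨g'', hg''⟩ := exists_lift_of_closedPoint _ g' hxm'
  refine ⟨R, iR, iR', φ, hφ, t.equivFin ⟨x, hx⟩, g'', ?_⟩
  rw [← cancel_mono (U : T.Opens).ι, Category.assoc, hfac, ← Category.assoc, hg'', hg', Category.assoc]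

theorem hasValLift_of_isVCover {E : PreZeroHypercover.{w} T} (hE : HTop.IsVCover E) : HTop.HasValLift E := by
  intro V _ _ g
  obtain ⟨U, hU, hxU, -⟩ := exists_isAffineOpen_mem_and_subset (X := T) (x := g (clo V)) (U := ⊤) trivial
  obtain ⟨g₁, hg₁⟩ := exists_lift_of_closedPoint U.ι g (by rw [Scheme.Opens.range_ι]; exact hxU)
  obtain ⟨F, hF, href⟩ := hE ⟨U, hU⟩
  obtain ⟨W, iW, iW', φ, hφ, j, g', hg'⟩ := hF.lift V g₁
  obtain ⟨i, h, hh⟩ := href j
  exact ⟨W, iW, iW', φ, hφ, i, g' ≫ h, by rw [Category.assoc, hh, ← Category.assoc, hg', Category.assoc, hg₁]⟩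

end Groth.L28.VTop
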