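import Groth.Agent.L28.VTop.Cover
import Groth.Prelude.Def_SGA1
import Mathlib.AlgebraicGeometry.Limits

/-!
# V coverings are universally submersive
-/

universe w u

open CategoryTheory CategoryTheory.Limits AlgebraicGeometry IsLocalRing

namespace Groth.L28.VTop

lemma isClosed_image_of_stable {Y U : Scheme.{u}} [CompactSpace ↥Y] [IsAffine U] (q : Y ⟶ U) {C : Set ↥Y}
    (hC : IsClosed C) (h : StableUnderSpecialization (q '' C)) : IsClosed (q '' C) := by
  obtain ⟨R, g, hg⟩ := (compactSpace_iff_exists (X := Y)).mp inferInstance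
  obtain ⟨φ, hφ⟩ := Spec.map_surjective (g ≫ q ≫ U.isoSpec.hom)
  have he : U.isoSpec.hom '' (q '' C) = Spec.map φ '' (g ⁻¹' C) := by
    rw [hφ]
    conv_lhs => rw [← Set.image_preimage_eq C hg]
    simp [Set.image_image]
  have hh : Topology.IsClosedEmbedding U.isoSpec.hom := U.isoSpec.hom.homeomorph.isClosedEmbedding
  rw [hh.isClosed_iff_image_isClosed, he]
  refine PrimeSpectrum.isClosed_image_of_stableUnderSpecialization φ.hom _ (hC.preimage g.continuous) ?_
  change StableUnderSpecialization (Spec.map φ '' (g ⁻¹' C))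
  rw [← he]
  exact h.image hh.isClosedMap.specializingMap

lemma univSubmersive_desc {X : Scheme.{u}} (E : PreZeroHypercover.{u} X) (hE : HTop.IsVCover E) :
    SGA1.UnivSubmersive (Sigma.desc E.f) := by
  intro P Z i₁ g p sq
  have hV := isVCover_pullback₁ g hE
  have hlift : ∀ i, ∃ k : pullback g (E.f i) ⟶ P, k ≫ p = pullback.fst g (E.f i) := fun i =>
    ⟨sq.lift (pullback.fst g (E.f i)) (pullback.snd g (E.f i) ≫ Sigma.ι E.X i) (by
      rw [Category.assoc, Sigma.ι_desc]; exact pullback.condition), sq.lift_fst _ _ _⟩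
  choose k hk using hlift
  change Topology.IsQuotientMap p
  rw [Topology.isQuotientMap_iff_isClosed]
  refine ⟨fun z => ?_, fun S => ⟨fun h => h.preimage p.continuous, fun hS => ?_⟩⟩
  · obtain ⟨U, hU, hzU, -⟩ := exists_isAffineOpen_mem_and_subset (X := Z) (x := z) (U := ⊤) trivial
    obtain ⟨F, hF, href⟩ := hV ⟨U, hU⟩
    haveI : IsAffine (U : Scheme.{u}) := hU
    obtain ⟨V, iV, iV', g₀, ha, -⟩ := exists_valuationRing_point (P := (U : Scheme.{u})) (a := ⟨z, hzU⟩) specializes_rfl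
    obtain ⟨W, iW, iW', φ, hφ, j, g', hg'⟩ := hF.lift V g₀
    obtain ⟨i, h, hh⟩ := href j
    refine ⟨k i (h (g' (gen W))), ?_⟩
    have h1 : p (k i (h (g' (gen W)))) = (g' ≫ h ≫ k i ≫ p) (gen W) := rfl
    rw [h1]; erw [hk i]
    change (g' ≫ h ≫ (E.pullback₁ g).f i) (gen W) = z
    rw [show h ≫ (E.pullback₁ g).f i = F.f j ≫ U.ι from hh, ← Category.assoc, hg', Category.assoc]
    rw [Scheme.Hom.comp_apply, map_gen hφ, Scheme.Hom.comp_apply, ha]
    rfl
  · have hcov : TopologicalSpace.IsOpenCover (fun U : Z.affineOpens => (U : Z.Opens)) := iSup_affineOpens_eq_top Z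
    refine hcov.isClosed_iff_coe_preimage.2 fun U => ?_
    haveI : IsAffine ((U : Z.Opens) : Scheme.{u}) := U.2
    obtain ⟨F, hF, href⟩ := hV U
    haveI := hF.finite_index
    haveI := hF.isAffine_obj
    let T : Set ↥((U : Z.Opens) : Scheme.{u}) := (U : Z.Opens).ι ⁻¹' S
    have hT : ∀ j, IsClosed (F.f j ⁻¹' T) := fun j => by
      obtain ⟨i, h, hh⟩ := href j
      have h1 : F.f j ⁻¹' T = h ⁻¹' (k i ⁻¹' (p ⁻¹' S)) := by
        ext x
        have h2 : (U : Z.Opens).ι (F.f j x) = p (k i (h x)) := by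
          rw [← Scheme.Hom.comp_apply, ← hh]
          change (h ≫ pullback.fst g (E.f i)) x = _
          rw [← hk i]
          rfl
        change (U : Z.Opens).ι (F.f j x) ∈ S ↔ p (k i (h x)) ∈ S
        rw [h2]
      rw [h1]
      exact (hS.preimage (k i).continuous).preimage h.continuous
    let q : ∐ F.X ⟶ ((U : Z.Opens) : Scheme.{u}) := Sigma.desc F.f
    have hcl : IsClosed (q ⁻¹' T) := by
      rw [← isOpen_compl_iff]
      have hmem : ∀ j y, q (Sigma.ι F.X j y) = F.f j y := fun j y => by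
        rw [← Scheme.Hom.comp_apply, Sigma.ι_desc]
      have h1 : (q ⁻¹' T)ᶜ = ⋃ j, Sigma.ι F.X j '' (F.f j ⁻¹' T)ᶜ := by
        ext x
        simp only [Set.mem_compl_iff, Set.mem_preimage, Set.mem_iUnion, Set.mem_image]
        constructor
        · intro hx
          obtain ⟨j, y, rfl⟩ : ∃ j y, Sigma.ι F.X j y = x :=
            ⟨_, (sigmaOpenCover F.X).covers x⟩
          exact ⟨j, y, by rwa [← hmem], rfl⟩
        · rintro ⟨j, y, hy, rfl⟩
          rwa [hmem]
      rw [h1]
      exact isOpen_iUnion fun j => (Sigma.ι F.X j).isOpenEmbedding.isOpenMap _ (hT j).isOpen_compl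
    have hspec : ∀ a b : ↥((U : Z.Opens) : Scheme.{u}), a ⤳ b → ∃ x y : ↥(∐ F.X), x ⤳ y ∧ q x = a ∧ q y = b := by
      intro a b hab
      obtain ⟨j, a', b', hab', ha', hb'⟩ := exists_specializes_of_hasValLift hF.lift (𝟙 _) hab
      refine ⟨Sigma.ι F.X j ((pullback.snd (𝟙 ((U : Z.Opens) : Scheme.{u})) (F.f j)) a'), Sigma.ι F.X j ((pullback.snd (𝟙 ((U : Z.Opens) : Scheme.{u})) (F.f j)) b'),
        (hab'.map (pullback.snd (𝟙 ((U : Z.Opens) : Scheme.{u})) (F.f j)).continuous).map (Sigma.ι F.X j).continuous, ?_, ?_⟩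
      · rw [← Scheme.Hom.comp_apply, Sigma.ι_desc, ← Scheme.Hom.comp_apply, ← pullback.condition, Category.comp_id, ha']
      · rw [← Scheme.Hom.comp_apply, Sigma.ι_desc, ← Scheme.Hom.comp_apply, ← pullback.condition, Category.comp_id, hb']
    have hsurj : Function.Surjective q := fun z => by
      obtain ⟨x, -, -, hx, -⟩ := hspec z z specializes_rfl
      exact ⟨x, hx⟩
    change IsClosed T
    rw [← Set.image_preimage_eq T hsurj]
    refine isClosed_image_of_stable q hcl fun a b hab ha => ?_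
    rw [Set.image_preimage_eq T hsurj] at ha ⊢
    obtain ⟨x, y, hxy, hxa, hyb⟩ := hspec a b hab
    rw [← hyb]
    exact hxy.mem_closed hcl (show x ∈ q ⁻¹' T by simpa [hxa] using ha)

end Groth.L28.VTop
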