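import Groth.Agent.L28.VTop.SubSquare

/-!
# Base change of almost blow-up squares
-/

universe u

open CategoryTheory CategoryTheory.Limits AlgebraicGeometry TopologicalSpace Opposite

namespace Groth.L28.VTop

set_option backward.isDefEq.respectTransparency.types false in
/-- The complement of an effective Cartier divisor is schematically dense. -/
lemma supportedOn_eq_bot {T : Scheme.{u}} {J : T.IdealSheafData} (hJ : BlowUp.IsEffCartierIdeal J) :
    HTop.supportedOn J = ⊥ := by
  rw [eq_bot_iff, Scheme.IdealSheafData.le_def]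
  intro V s hs
  have hs' : (HTop.awayFrom J).ι.app V.1 s = 0 := RingHom.mem_ker.1 (Scheme.Hom.ideal_ker_le _ V hs)
  rw [Scheme.IdealSheafData.ideal_bot]
  change s = 0
  refine TopCat.Presheaf.section_ext T.sheaf V.1 s 0 fun x hx => ?_
  change T.presheaf.germ V.1 x hx s = T.presheaf.germ V.1 x hx 0
  rw [map_zero]
  obtain ⟨U, hxU, e, -, -, hU⟩ := Groth.L22.Ideals.exists_generator hJ x
  obtain ⟨_, ⟨W, hW, rfl⟩, hxW, hWle⟩ := T.isBasis_affineOpens.exists_subset_of_mem_open
    (show x ∈ V.1 ⊓ U.1 from ⟨hx, hxU⟩) (V.1 ⊓ U.1).2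
  have hWV : W ≤ V.1 := fun y hy => (hWle hy).1
  have hWU : W ≤ U.1 := fun y hy => (hWle hy).2
  obtain ⟨he, heI⟩ := hU ⟨W, hW⟩ hWU
  have hzero : T.presheaf.map (homOfLE hWV).op s = 0 := by
    refine Groth.L22.Mero.eq_zero_of_germ_eq_zero hW (Groth.L22.Mero.mem_regSub_of_mem_nonZeroDivisors hW he) _ ?_
    intro y hy hu
    rw [TopCat.Presheaf.germ_res_apply]
    have hyA : y ∈ HTop.awayFrom J := by
      intro hmem
      rw [SetLike.mem_coe, Scheme.IdealSheafData.mem_support_iff_of_mem (U := ⟨W, hW⟩) hy, heI,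
        Scheme.zeroLocus_span, Scheme.zeroLocus_singleton] at hmem
      exact hmem ((T.mem_basicOpen _ y hy).2 hu)
    have h1 := congrArg (fun t => ((HTop.awayFrom J : Scheme.{u}).presheaf.germ ((HTop.awayFrom J).ι ⁻¹ᵁ V.1)
      ⟨y, hyA⟩ (hWV hy)) t) hs'
    simp only [map_zero] at h1
    rw [← Scheme.Hom.germ_stalkMap_apply (HTop.awayFrom J).ι V.1 ⟨y, hyA⟩ (hWV hy) s] at h1
    exact (ConcreteCategory.bijective_of_isIso ((HTop.awayFrom J).ι.stalkMap ⟨y, hyA⟩)).1
      (h1.trans (map_zero _).symm)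
  have := congrArg (T.presheaf.germ W x hxW) hzero
  rwa [map_zero, TopCat.Presheaf.germ_res_apply] at this

/-- Morphisms along which the divisor stays effective factor through the closure of its complement. -/
lemma supportedOn_le_ker {T X : Scheme.{u}} (k : T ⟶ X) (D : X.IdealSheafData)
    (h : BlowUp.IsEffCartierIdeal (D.comap k)) : HTop.supportedOn D ≤ k.ker := by
  have hA : HTop.awayFrom (D.comap k) = k ⁻¹ᵁ HTop.awayFrom D := by
    ext x
    show x ∉ (D.comap k).support ↔ k x ∉ D.support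
    rw [Scheme.IdealSheafData.support_comap]
    rfl
  have h1 := supportedOn_eq_bot h
  rw [HTop.supportedOn, hA] at h1
  calc HTop.supportedOn D ≤ (k ∣_ HTop.awayFrom D ≫ (HTop.awayFrom D).ι).ker := Scheme.Hom.le_ker_comp _ _
    _ = ((k ⁻¹ᵁ HTop.awayFrom D).ι ≫ k).ker := by rw [morphismRestrict_ι]
    _ = k.ker := by rw [Scheme.Hom.ker_comp, h1, Scheme.IdealSheafData.map_bot]

lemma awayFrom_inf_eq_basicOpen {X : Scheme.{u}} (D : X.IdealSheafData) (V : X.affineOpens) {f : Γ(X, V.1)}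
    (hf : D.ideal V = Ideal.span {f}) :
    (HTop.awayFrom D ⊓ V.1 : X.Opens) = X.basicOpen f := by
  ext y
  simp only [Opens.coe_inf, Set.mem_inter_iff, SetLike.mem_coe]
  constructor
  · rintro ⟨hy, hyV⟩
    by_contra hn
    apply hy
    rw [SetLike.mem_coe, Scheme.IdealSheafData.mem_support_iff_of_mem (U := V) hyV, hf, Scheme.zeroLocus_span,
      Scheme.zeroLocus_singleton]
    exact hn
  · intro hy
    have hyV : y ∈ V.1 := X.basicOpen_le f hy
    refine ⟨fun hmem => ?_, hyV⟩
    rw [SetLike.mem_coe, Scheme.IdealSheafData.mem_support_iff_of_mem (U := V) hyV, hf, Scheme.zeroLocus_span,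
      Scheme.zeroLocus_singleton] at hmem
    exact hmem hy

set_option backward.isDefEq.respectTransparency.types false in
lemma quasiCompact_awayFrom {X : Scheme.{u}} {D : X.IdealSheafData} (hD : HTop.IsLocPrincipal D) :
    QuasiCompact (HTop.awayFrom D).ι := by
  choose V hxV f hf using hD
  refine IsZariskiLocalAtTarget.of_iSup_eq_top (P := @QuasiCompact) (fun x => (V x).1)
    (top_unique fun x _ => Opens.mem_iSup.2 ⟨x, hxV x⟩) fun x => ?_
  haveI : IsAffine (V x).1.toScheme := (V x).2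
  rw [quasiCompact_iff_compactSpace]
  refine isCompact_iff_compactSpace.mp ?_
  rw [(HTop.awayFrom D).ι.isOpenEmbedding.isCompact_iff]
  have : (HTop.awayFrom D).ι '' ((HTop.awayFrom D).ι ⁻¹ᵁ (V x).1 : Set _) =
      ((X.basicOpen (f x)) : Set X) := by
    rw [← awayFrom_inf_eq_basicOpen D (V x) (hf x), Scheme.Hom.coe_preimage, Set.image_preimage_eq_inter_range,
      Scheme.Opens.range_ι, Opens.coe_inf, Set.inter_comm]
  rw [this]
  exact ((V x).2.basicOpen (f x)).isCompact

set_option backward.isDefEq.respectTransparency.types false in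
/-- The divisor becomes effective on the closure of its complement. -/
lemma isEffCartier_supportedOn {X : Scheme.{u}} {D : X.IdealSheafData} (hD : HTop.IsLocPrincipal D) :
    BlowUp.IsEffCartierIdeal (D.comap (HTop.supportedOn D).subschemeι) := by
  haveI := quasiCompact_awayFrom hD
  intro x
  obtain ⟨V, hxV, f, hf⟩ := hD ((HTop.supportedOn D).subschemeι x)
  set p := (HTop.supportedOn D).subschemeι
  refine ⟨⟨p ⁻¹ᵁ V.1, V.2.preimage p⟩, hxV, p.app V.1 f, ?_, ?_⟩
  · rw [mem_nonZeroDivisors_iff_right]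
    intro c hc
    obtain ⟨a, rfl⟩ := Scheme.Hom.app_surjective p V.1 V.2 c
    rw [← map_mul] at hc
    have hmem : a * f ∈ RingHom.ker (p.app V.1).hom := RingHom.mem_ker.2 hc
    rw [Scheme.IdealSheafData.ker_subschemeι_app, HTop.supportedOn, Scheme.Hom.ker_apply, RingHom.mem_ker,
      map_mul] at hmem
    have hunit : IsUnit ((HTop.awayFrom D).ι.app V.1 f) := by
      refine RingedSpace.isUnit_of_isUnit_germ (HTop.awayFrom D).toScheme.toRingedSpace _ _ fun y hy => ?_
      have hyb : y.1 ∈ X.basicOpen f := by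
        rw [← awayFrom_inf_eq_basicOpen D V hf]; exact ⟨y.2, hy⟩
      have := ((X.mem_basicOpen f y.1 (X.basicOpen_le f hyb)).1 hyb).map ((HTop.awayFrom D).ι.stalkMap y).hom
      erw [Scheme.Hom.germ_stalkMap_apply] at this
      exact this
    have h0 : (HTop.awayFrom D).ι.app V.1 a = 0 := (hunit.mul_left_eq_zero).1 hmem
    have : a ∈ RingHom.ker (p.app V.1).hom := by
      rw [Scheme.IdealSheafData.ker_subschemeι_app, HTop.supportedOn, Scheme.Hom.ker_apply]
      exact RingHom.mem_ker.2 h0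
    exact RingHom.mem_ker.1 this
  · rw [Groth.L22.Ideals.comap_ideal p D V ⟨_, V.2.preimage p⟩ le_rfl, hf, Ideal.map_span, Set.image_singleton,
      ← Scheme.Hom.app_eq_appLE]

lemma ker_of_isPullback {X Y Z Z₁ : Scheme.{u}} {i : Z ⟶ X} [IsClosedImmersion i] {g : Y ⟶ X} {i₁ : Z₁ ⟶ Y}
    {gZ : Z₁ ⟶ Z} (h : IsPullback gZ i₁ i g) : i₁.ker = i.ker.comap g := by
  haveI := IsClosedImmersion.isIso_lift i i.ker.subschemeι (by rw [Scheme.IdealSheafData.ker_subschemeι])
  let k := IsClosedImmersion.lift i i.ker.subschemeι (by rw [Scheme.IdealSheafData.ker_subschemeι])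
  have hk : k ≫ i = i.ker.subschemeι := IsClosedImmersion.lift_fac _ _ _
  have h' : IsPullback (gZ ≫ inv k) i₁ i.ker.subschemeι g := by
    refine h.of_iso (Iso.refl _) (asIso k).symm (Iso.refl _) (Iso.refl _) ?_ ?_ ?_ ?_
    · simp
    · simp
    · simp only [Iso.refl_hom, Category.comp_id, Iso.symm_hom, asIso_inv]
      rw [← hk, IsIso.inv_hom_id_assoc]
    · simp
  rw [Scheme.IdealSheafData.comap, ← h'.flip.isoPullback_hom_fst, Scheme.Hom.ker_comp_of_isIso]

theorem isAlmostBlowUpSquare_baseChange {E Z X' X Y E₁ Z₁ X₁ : Scheme.{u}} {e : E ⟶ X'} {π : E ⟶ Z}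
    {b : X' ⟶ X} {i : Z ⟶ X} (h : HTop.IsAlmostBlowUpSquare e π b i) (g : Y ⟶ X) {b₁ : X₁ ⟶ Y}
    {gX : X₁ ⟶ X'} (hX : IsPullback gX b₁ b g) {i₁ : Z₁ ⟶ Y} {gZ : Z₁ ⟶ Z} (hZ : IsPullback gZ i₁ i g)
    {e₁ : E₁ ⟶ X₁} {gE : E₁ ⟶ E} (hE : IsPullback gE e₁ e gX) {π₁ : E₁ ⟶ Z₁} (hπ : π₁ ≫ i₁ = e₁ ≫ b₁) :
    HTop.IsAlmostBlowUpSquare e₁ π₁ b₁ i₁ := by
  haveI := h.isClosedImmersion
  haveI := h.isProper
  haveI := h.finitePresentation
  haveI := h.finitePresentation_base
  have hker : i₁.ker = i.ker.comap g := ker_of_isPullback hZ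
  have hD : i₁.ker.comap b₁ = (i.ker.comap b).comap gX := by
    rw [hker, ← Scheme.IdealSheafData.comap_comp, ← Scheme.IdealSheafData.comap_comp, hX.w]
  have hpb : IsPullback e₁ π₁ b₁ i₁ := by
    have hbig : IsPullback (π₁ ≫ gZ) e₁ i (b₁ ≫ g) := by
      have hcomp : IsPullback (gE ≫ π) e₁ i (gX ≫ b) := hE.paste_horiz h.isPullback.flip
      have he : π₁ ≫ gZ = gE ≫ π := by
        rw [← cancel_mono i, Category.assoc, hZ.w, reassoc_of% hπ, ← hX.w, Category.assoc, ← h.isPullback.w,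
          reassoc_of% hE.w]
      rwa [he, ← hX.w]
    exact (IsPullback.of_right hbig hπ hZ).flip
  refine ⟨MorphismProperty.of_isPullback hZ h.isClosedImmersion,
    MorphismProperty.of_isPullback hZ h.finitePresentation_base, hpb, ?_,
    MorphismProperty.of_isPullback hX h.isProper, MorphismProperty.of_isPullback hX h.finitePresentation, ?_, ?_⟩
  · rw [hD]
    exact isLocPrincipal_comap gX h.locPrincipal
  · have hl : HTop.IsLocPrincipal (i₁.ker.comap b₁) := by
      rw [hD]; exact isLocPrincipal_comap gX h.locPrincipal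
    rw [Scheme.IdealSheafData.comap_comp]
    exact isEffCartier_supportedOn hl
  · intro T t ht
    have ht' : BlowUp.IsEffCartierIdeal (i.ker.comap (t ≫ g)) := by
      rwa [Scheme.IdealSheafData.comap_comp, ← hker]
    obtain ⟨m, hm, huniq⟩ := h.isBlowUp.2 T (t ≫ g) ht'
    let K := HTop.supportedOn (i.ker.comap b)
    let K₁ := HTop.supportedOn (i₁.ker.comap b₁)
    let k : T ⟶ X₁ := hX.lift (m ≫ K.subschemeι) t (by rw [Category.assoc]; exact hm)
    have hk₁ : k ≫ gX = m ≫ K.subschemeι := hX.lift_fst _ _ _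
    have hk₂ : k ≫ b₁ = t := hX.lift_snd _ _ _
    have hle : K₁.subschemeι.ker ≤ k.ker := by
      rw [Scheme.IdealSheafData.ker_subschemeι]
      refine supportedOn_le_ker k _ ?_
      rwa [← Scheme.IdealSheafData.comap_comp, hk₂]
    refine ⟨IsClosedImmersion.lift K₁.subschemeι k hle, ?_, fun l hl => ?_⟩
    · show IsClosedImmersion.lift K₁.subschemeι k hle ≫ K₁.subschemeι ≫ b₁ = t
      rw [IsClosedImmersion.lift_fac_assoc, hk₂]
    · have hl' : (l ≫ K₁.subschemeι) ≫ b₁ = t := by rw [Category.assoc]; exact hl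
      have hlg : K.subschemeι.ker ≤ ((l ≫ K₁.subschemeι) ≫ gX).ker := by
        rw [Scheme.IdealSheafData.ker_subschemeι]
        refine supportedOn_le_ker _ _ ?_
        rwa [← Scheme.IdealSheafData.comap_comp, Category.assoc, hX.w, ← Category.assoc, hl']
      have hm' : IsClosedImmersion.lift K.subschemeι _ hlg = m := huniq _ (by
        show _ ≫ K.subschemeι ≫ b = t ≫ g
        rw [IsClosedImmersion.lift_fac_assoc, Category.assoc, hX.w, ← Category.assoc, hl'])
      rw [← cancel_mono K₁.subschemeι, IsClosedImmersion.lift_fac]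
      apply hX.hom_ext
      · rw [hk₁, ← hm', IsClosedImmersion.lift_fac]
      · rw [hk₂, hl']

end Groth.L28.VTop
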