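import Groth.Agent.L28.VTop.Proper
import Groth.Agent.L22.BlowUp
import Groth.Agent.S12442
import Groth.Prelude.Def_HTop3
import Mathlib.CategoryTheory.Sites.Over
import Mathlib.AlgebraicGeometry.Morphisms.ClosedImmersion
import Mathlib.AlgebraicGeometry.Morphisms.Separated

/-!
# Cartesian squares of sections for sheaves in which pairs of proper morphisms cover
-/

universe w v u

open CategoryTheory CategoryTheory.Limits AlgebraicGeometry Opposite

namespace Groth.L28.VTop

theorem descent {C : Type*} [Category* C] (J : GrothendieckTopology C) {F : Cᵒᵖ ⥤ Type w}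
    (hF : Presieve.IsSheaf J F) {E Z X Y : C} {e : E ⟶ X} {π : E ⟶ Z} {f : X ⟶ Y} {i : Z ⟶ Y} [Mono i]
    (hlift : ∀ W (a : W ⟶ X) (c : W ⟶ Z), a ≫ f = c ≫ i → ∃ m, m ≫ e = a ∧ m ≫ π = c)
    (hcov : ∀ R : Sieve Y, R i → R f → R ∈ J Y)
    (hsep : ∀ W (g₁ g₂ : W ⟶ X), g₁ ≫ f = g₂ ≫ f → ∀ R : Sieve W,
      (∀ V (k : V ⟶ W), k ≫ g₁ = k ≫ g₂ → R k) →
      (∀ V (k : V ⟶ W) (l : V ⟶ Z), k ≫ g₁ ≫ f = l ≫ i → R k) → R ∈ J W)
    (t : F.obj (op Z)) (s' : F.obj (op X)) (hts : F.map π.op t = F.map e.op s') :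
    ∃! s : F.obj (op Y), F.map i.op s = t ∧ F.map f.op s = s' := by
  let T : Bool → C := fun b => Bool.rec X Z b
  let a : ∀ b, T b ⟶ Y := fun b => Bool.rec (motive := fun b => T b ⟶ Y) f i b
  have hR : Sieve.generate (Presieve.ofArrows T a) ∈ J Y :=
    hcov _ (Sieve.le_generate _ _ _ (Presieve.ofArrows.mk true)) (Sieve.le_generate _ _ _ (Presieve.ofArrows.mk false))
  have hsh := (Presieve.isSheafFor_iff_generate _).2 (hF _ hR)
  let x : ∀ b, F.obj (op (T b)) := fun b => Bool.rec (motive := fun b => F.obj (op (T b))) s' t b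
  have hmix : ∀ W (g : W ⟶ X) (l : W ⟶ Z), g ≫ f = l ≫ i → F.map g.op s' = F.map l.op t := by
    intro W g l h
    obtain ⟨m, rfl, rfl⟩ := hlift W g l h
    rw [op_comp, op_comp, Functor.map_comp_apply, Functor.map_comp_apply, hts]
  have hff : ∀ W (g₁ g₂ : W ⟶ X), g₁ ≫ f = g₂ ≫ f → F.map g₁.op s' = F.map g₂.op s' := by
    intro W g₁ g₂ h
    let R : Sieve W :=
      { arrows := fun V k => F.map k.op (F.map g₁.op s') = F.map k.op (F.map g₂.op s')
        downward_closed := fun {V V' k} hk m => by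
          simp only [op_comp, Functor.map_comp_apply] at hk ⊢
          rw [hk] }
    refine (hF R (hsep W g₁ g₂ h R ?_ ?_)).isSeparatedFor.ext fun V k hk => hk
    · intro V k hk
      show F.map k.op _ = F.map k.op _
      rw [← Functor.map_comp_apply, ← Functor.map_comp_apply, ← op_comp, ← op_comp, hk]
    · intro V k l hl
      show F.map k.op _ = F.map k.op _
      rw [← Functor.map_comp_apply, ← Functor.map_comp_apply, ← op_comp, ← op_comp,
        hmix V (k ≫ g₁) l (by rw [Category.assoc, hl]),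
        hmix V (k ≫ g₂) l (by rw [Category.assoc, ← h, hl])]
  have hx : Presieve.Arrows.Compatible F a x := by
    intro b b' W gb gb' h
    cases b <;> cases b'
    · exact hff W gb gb' h
    · exact hmix W gb gb' h
    · exact (hmix W gb' gb h.symm).symm
    · obtain rfl : gb = gb' := (cancel_mono i).1 h
      rfl
  obtain ⟨s, hs, huniq⟩ := (Presieve.isSheafFor_arrows_iff _ _).1 hsh x hx
  refine ⟨s, ⟨hs true, hs false⟩, fun s₂ hs₂ => huniq s₂ fun b => ?_⟩
  cases b
  exacts [hs₂.2, hs₂.1]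

lemma lfp_diagonal {X Y : Scheme.{u}} (f : X ⟶ Y) [LocallyOfFiniteType f] :
    LocallyOfFinitePresentation (pullback.diagonal f) := by
  haveI : LocallyOfFinitePresentation (pullback.diagonal f ≫ pullback.fst f f) := by
    rw [pullback.diagonal_fst]; infer_instance
  exact Groth.Agent.S12442.result (pullback.diagonal f) (pullback.fst f f)

/-- Squares with a closed immersion and a proper morphism which is an isomorphism away from it. -/
theorem existsUnique_square {S : Scheme.{u}} (J : GrothendieckTopology (Over S)) {F : (Over S)ᵒᵖ ⥤ Type w}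
    (hF : Presieve.IsSheaf J F) (Q : MorphismProperty Scheme.{u}) [Q.IsStableUnderBaseChange]
    (hJ : ∀ ⦃W A B : Over S⦄ (a : A ⟶ W) (b : B ⟶ W), IsProper a.left → IsProper b.left → Q a.left → Q b.left →
      (∀ w : W.left, w ∈ Set.range a.left ∨ w ∈ Set.range b.left) →
      ∀ R : Sieve W, R a → R b → R ∈ J W)
    {E Z X Y : Over S} {e : E ⟶ X} {π : E ⟶ Z} {f : X ⟶ Y} {i : Z ⟶ Y}
    (hsq : IsPullback e.left π.left f.left i.left) [IsClosedImmersion i.left] [IsProper f.left]
    (hQi : Q i.left) (hQf : Q f.left) (hQd : Q (pullback.diagonal f.left))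
    (U : Y.left.Opens) (hU : ∀ y : Y.left, y ∉ U → y ∈ Set.range i.left) (hiso : IsIso (f.left ∣_ U))
    (t : F.obj (op Z)) (s' : F.obj (op X)) (hts : F.map π.op t = F.map e.op s') :
    ∃! s : F.obj (op Y), F.map i.op s = t ∧ F.map f.op s = s' := by
  haveI : Mono i.left := inferInstance
  haveI : Mono i := Over.mono_of_mono_left i
  refine descent J hF (fun W a c h => ?_) (fun R hi hf => hJ i f inferInstance inferInstance hQi hQf ?_ R hi hf)
    (fun W g₁ g₂ h R h₁ h₂ => ?_) t s' hts
  · have h' : a.left ≫ f.left = c.left ≫ i.left := congrArg CommaMorphism.left h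
    refine ⟨Over.homMk (hsq.lift a.left c.left h') ?_, ?_, ?_⟩
    · rw [← Over.w e, hsq.lift_fst_assoc, Over.w]
    · ext; exact hsq.lift_fst _ _ _
    · ext; exact hsq.lift_snd _ _ _
  · intro y
    by_cases hy : y ∈ U
    · right
      obtain ⟨x, hx⟩ := (f.left ∣_ U).surjective ⟨y, hy⟩
      refine ⟨x.1, ?_⟩
      rw [← morphismRestrict_base_coe f.left U x, hx]
    · exact Or.inl (hU y hy)
  · have h' : g₁.left ≫ f.left = g₂.left ≫ f.left := congrArg CommaMorphism.left h
    let l : W.left ⟶ pullback f.left f.left := pullback.lift g₁.left g₂.left h'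
    let k₁ : Over.mk (pullback.fst l (pullback.diagonal f.left) ≫ W.hom) ⟶ W :=
      Over.homMk (pullback.fst l (pullback.diagonal f.left)) rfl
    let k₂ : Over.mk (pullback.fst (g₁.left ≫ f.left) i.left ≫ W.hom) ⟶ W :=
      Over.homMk (pullback.fst (g₁.left ≫ f.left) i.left) rfl
    refine hJ k₁ k₂ ?_ ?_ ?_ ?_ ?_ R (h₁ _ k₁ ?_) (h₂ _ k₂ (Over.homMk (pullback.snd _ _) ?_) ?_)
    · exact (inferInstance : IsProper (pullback.fst l (pullback.diagonal f.left)))
    · exact (inferInstance : IsProper (pullback.fst (g₁.left ≫ f.left) i.left))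
    · exact MorphismProperty.pullback_fst _ _ hQd
    · exact MorphismProperty.pullback_fst _ _ hQi
    · intro w
      show w ∈ Set.range (pullback.fst l (pullback.diagonal f.left)) ∨
        w ∈ Set.range (pullback.fst (g₁.left ≫ f.left) i.left)
      by_cases hw : (g₁.left ≫ f.left) w ∈ U
      · left
        let W' : W.left.Opens := (g₁.left ≫ f.left) ⁻¹ᵁ U
        have hle₁ : W' ≤ g₁.left ⁻¹ᵁ (f.left ⁻¹ᵁ U) := le_rfl
        have hle₂ : W' ≤ g₂.left ⁻¹ᵁ (f.left ⁻¹ᵁ U) := by
          intro z hz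
          show f.left (g₂.left z) ∈ U
          rw [← Scheme.Hom.comp_apply, ← h']
          exact hz
        have he : g₁.left.resLE (f.left ⁻¹ᵁ U) W' hle₁ = g₂.left.resLE (f.left ⁻¹ᵁ U) W' hle₂ := by
          rw [← cancel_mono (f.left ∣_ U), ← cancel_mono U.ι, Category.assoc, Category.assoc, morphismRestrict_ι,
            Scheme.Hom.resLE_comp_ι_assoc, Scheme.Hom.resLE_comp_ι_assoc, h']
        have he' : W'.ι ≫ g₁.left = W'.ι ≫ g₂.left := by
          rw [← g₁.left.resLE_comp_ι hle₁, ← g₂.left.resLE_comp_ι hle₂, he]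
        let p : (W' : Scheme.{u}) ⟶ pullback l (pullback.diagonal f.left) :=
          pullback.lift W'.ι (W'.ι ≫ g₁.left) (by
            apply pullback.hom_ext
            · rw [Category.assoc, Category.assoc, pullback.diagonal_fst, Category.comp_id,
                show l ≫ pullback.fst f.left f.left = g₁.left from pullback.lift_fst _ _ _]
            · rw [Category.assoc, Category.assoc, pullback.diagonal_snd, Category.comp_id,
                show l ≫ pullback.snd f.left f.left = g₂.left from pullback.lift_snd _ _ _, he'])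
        have hp : p ≫ pullback.fst l (pullback.diagonal f.left) = W'.ι := pullback.lift_fst _ _ _
        have hw' : w ∈ W' := hw
        refine ⟨p ⟨w, hw'⟩, ?_⟩
        exact congrArg (fun φ => φ.base ⟨w, hw'⟩) hp
      · right
        obtain ⟨z, hz⟩ := hU _ hw
        obtain ⟨a, ha, -⟩ := Scheme.Pullback.exists_preimage_pullback (f := g₁.left ≫ f.left) (g := i.left) w z hz.symm
        exact ⟨a, ha⟩
    · ext
      show pullback.fst l _ ≫ g₁.left = pullback.fst l _ ≫ g₂.left
      have h1 := congrArg (· ≫ pullback.fst f.left f.left) (pullback.condition (f := l) (g := pullback.diagonal f.left))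
      have h2 := congrArg (· ≫ pullback.snd f.left f.left) (pullback.condition (f := l) (g := pullback.diagonal f.left))
      simp only [l, Category.assoc, pullback.lift_fst, pullback.lift_snd, pullback.diagonal_fst, pullback.diagonal_snd,
        Category.comp_id] at h1 h2
      exact h1.trans h2.symm
    · show pullback.snd _ _ ≫ Z.hom = pullback.fst _ _ ≫ W.hom
      rw [← Over.w i, ← pullback.condition_assoc, Category.assoc, Over.w, Over.w]
    · ext
      exact pullback.condition

lemma mem_Jh_pair {S : Scheme.{u}} {W A B : Over S} (a : A ⟶ W) (b : B ⟶ W) [IsProper a.left] [IsProper b.left]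
    [LocallyOfFinitePresentation a.left] [LocallyOfFinitePresentation b.left]
    (hs : ∀ w : W.left, w ∈ Set.range a.left ∨ w ∈ Set.range b.left) (R : Sieve W) (ha : R a) (hb : R b) :
    R ∈ HTop.Jh S W := by
  rw [GrothendieckTopology.mem_over_iff]
  refine GrothendieckTopology.superset_covering _ ?_ (Precoverage.generate_mem_toGrothendieck
    ((HTop.presieve₀_mem_hPrecoverage_iff _).2 (isHCover_pair a.left b.left hs)))
  rw [Sieve.generate_le_iff]
  rintro V g ⟨(_ | _)⟩
  · have e : (Over.homMk b.left rfl : Over.mk (b.left ≫ W.hom) ⟶ W) =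
        (Over.homMk (𝟙 B.left) (by simp) : Over.mk (b.left ≫ W.hom) ⟶ B) ≫ b := by
      ext; exact (Category.id_comp _).symm
    exact (Sieve.overEquiv_iff _ _).2 (e ▸ R.downward_closed hb _)
  · have e : (Over.homMk a.left rfl : Over.mk (a.left ≫ W.hom) ⟶ W) =
        (Over.homMk (𝟙 A.left) (by simp) : Over.mk (a.left ≫ W.hom) ⟶ A) ≫ a := by
      ext; exact (Category.id_comp _).symm
    exact (Sieve.overEquiv_iff _ _).2 (e ▸ R.downward_closed ha _)

lemma mem_Jph_pair {S : Scheme.{u}} {W A B : Over S} (a : A ⟶ W) (b : B ⟶ W) [IsProper a.left] [IsProper b.left]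
    (hs : ∀ w : W.left, w ∈ Set.range a.left ∨ w ∈ Set.range b.left) (R : Sieve W) (ha : R a) (hb : R b) :
    R ∈ HTop.Jph S W := by
  rw [GrothendieckTopology.mem_over_iff]
  refine GrothendieckTopology.superset_covering _ ?_ (Precoverage.generate_mem_toGrothendieck
    ((HTop.presieve₀_mem_phPrecoverage_iff _).2 (isPhCover_pair a.left b.left hs)))
  rw [Sieve.generate_le_iff]
  rintro V g ⟨(_ | _)⟩
  · have e : (Over.homMk b.left rfl : Over.mk (b.left ≫ W.hom) ⟶ W) =
        (Over.homMk (𝟙 B.left) (by simp) : Over.mk (b.left ≫ W.hom) ⟶ B) ≫ b := by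
      ext; exact (Category.id_comp _).symm
    exact (Sieve.overEquiv_iff _ _).2 (e ▸ R.downward_closed hb _)
  · have e : (Over.homMk a.left rfl : Over.mk (a.left ≫ W.hom) ⟶ W) =
        (Over.homMk (𝟙 A.left) (by simp) : Over.mk (a.left ≫ W.hom) ⟶ A) ≫ a := by
      ext; exact (Category.id_comp _).symm
    exact (Sieve.overEquiv_iff _ _).2 (e ▸ R.downward_closed ha _)

/-- A morphism whose restriction to the closed image of an open is an isomorphism over that open is one. -/
lemma isIso_restrict_of_almostBlowUp {E Z X' X : Scheme.{u}} {e : E ⟶ X'} {π : E ⟶ Z} {b : X' ⟶ X} {i : Z ⟶ X}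
    (h : HTop.IsAlmostBlowUpSquare e π b i) : IsIso (b ∣_ i.ker.support.compl) := by
  set U := i.ker.support.compl
  set K := HTop.supportedOn (i.ker.comap b)
  have h1 : IsIso ((K.subschemeι ≫ b) ∣_ U) := Groth.L22.Ideals.isIso_restrict_compl h.isBlowUp
  rw [morphismRestrict_comp] at h1
  have hV : b ⁻¹ᵁ U = HTop.awayFrom (i.ker.comap b) := by
    ext x
    show b x ∉ i.ker.support ↔ x ∉ (i.ker.comap b).support
    rw [Scheme.IdealSheafData.support_comap]
    rfl
  have hfac : ∃ p : (b ⁻¹ᵁ U : Scheme.{u}) ⟶ K.subscheme, p ≫ K.subschemeι = (b ⁻¹ᵁ U).ι := by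
    rw [hV]
    exact ⟨(HTop.awayFrom (i.ker.comap b)).ι.toImage, Scheme.Hom.toImage_imageι _⟩
  obtain ⟨p, hp⟩ := hfac
  haveI : IsIso (K.subschemeι ∣_ (b ⁻¹ᵁ U)) := by
    let s := IsOpenImmersion.lift (K.subschemeι ⁻¹ᵁ (b ⁻¹ᵁ U)).ι p (by
      rw [Scheme.Opens.range_ι]
      rintro _ ⟨y, rfl⟩
      show K.subschemeι (p y) ∈ b ⁻¹ᵁ U
      rw [← Scheme.Hom.comp_apply, hp]
      exact y.2)
    have hs : s ≫ (K.subschemeι ∣_ (b ⁻¹ᵁ U)) = 𝟙 _ := by
      rw [← cancel_mono (b ⁻¹ᵁ U).ι, Category.assoc, morphismRestrict_ι, IsOpenImmersion.lift_fac_assoc, hp,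
        Category.id_comp]
    haveI : IsClosedImmersion (K.subschemeι ∣_ (b ⁻¹ᵁ U)) :=
      IsZariskiLocalAtTarget.restrict (inferInstanceAs (IsClosedImmersion K.subschemeι)) _
    exact ⟨s, (cancel_mono (K.subschemeι ∣_ (b ⁻¹ᵁ U))).1 (by rw [Category.assoc, hs, Category.comp_id, Category.id_comp]), hs⟩
  haveI : IsIso (K.subschemeι ∣_ (b ⁻¹ᵁ U) ≫ b ∣_ U) := h1
  exact IsIso.of_isIso_comp_left (K.subschemeι ∣_ (b ⁻¹ᵁ U)) (b ∣_ U)

lemma mem_range_of_mem_support {Z X : Scheme.{u}} (i : Z ⟶ X) [IsClosedImmersion i] {x : X}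
    (hx : x ∉ i.ker.support.compl) : x ∈ Set.range i := by
  have h : x ∈ (i.ker.support : Set X) := not_not.mp hx
  rw [Scheme.Hom.support_ker] at h
  exact i.isClosedEmbedding.isClosed_range.closure_eq ▸ h

end Groth.L28.VTop
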