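import Groth.Agent.L28.VTop.Cover
import Mathlib.AlgebraicGeometry.Sites.BigZariski
import Mathlib.CategoryTheory.Sites.Canonical

/-!
# Sheaf conditions for the V and ph coverings
-/

universe w w' v u

open CategoryTheory CategoryTheory.Limits AlgebraicGeometry Opposite

namespace Groth.L28.VTop

variable {F : Scheme.{u}ᵒᵖ ⥤ Type v}

/-- the finest topology for which `F` is a sheaf -/
abbrev topOf (F : Scheme.{u}ᵒᵖ ⥤ Type v) : GrothendieckTopology Scheme.{u} := Sheaf.finestTopologySingle F

lemma isSheafFor_of_mem {T : Scheme.{u}} {R : Presieve T} (h : Sieve.generate R ∈ topOf F T) :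
    Presieve.IsSheafFor F R := by
  rw [Presieve.isSheafFor_iff_generate]
  simpa using h T (𝟙 T)

lemma zariski_le (hZ : Presieve.IsSheaf Scheme.zariskiTopology F) : Scheme.zariskiTopology ≤ topOf F :=
  fun _ _ hS Y f => hZ _ (Scheme.zariskiTopology.pullback_stable f hS)

lemma openCover_mem (hZ : Presieve.IsSheaf Scheme.zariskiTopology F) {T : Scheme.{u}} (𝒰 : T.OpenCover) :
    Sieve.generate 𝒰.presieve₀ ∈ topOf F T :=
  zariski_le hZ T (Precoverage.generate_mem_toGrothendieck 𝒰.mem₀)

/-- a sieve is covering as soon as its pullbacks to affines satisfy the sheaf condition -/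
theorem mem_of_affine (hZ : Presieve.IsSheaf Scheme.zariskiTopology F) {T : Scheme.{u}} (S : Sieve T)
    (h : ∀ (U : Scheme.{u}) [IsAffine U] (g : U ⟶ T), Presieve.IsSheafFor F (S.pullback g).arrows) :
    S ∈ topOf F T := by
  have hcov : ∀ Z : Scheme.{u}, Presieve.IsSheafFor F (Presieve.ofArrows _ Z.affineCover.f) := fun Z =>
    isSheafFor_of_mem (openCover_mem hZ Z.affineCover)
  have hsep : ∀ (Z : Scheme.{u}) (g : Z ⟶ T), Presieve.IsSeparatedFor F (S.pullback g).arrows := by
    intro Z g x t₁ t₂ h₁ h₂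
    refine (hcov Z).isSeparatedFor.ext fun Y f hf => ?_
    obtain ⟨i⟩ := hf
    refine (h _ (Z.affineCover.f i ≫ g)).isSeparatedFor.ext fun W k hk => ?_
    have hk' : (S.pullback g).arrows (k ≫ Z.affineCover.f i) := by simpa using hk
    rw [← Functor.map_comp_apply, ← Functor.map_comp_apply, ← op_comp]
    exact (h₁ _ hk').trans (h₂ _ hk').symm
  intro Z g s hs
  have haff : ∀ i, ∃ t : F.obj (op (Z.affineCover.X i)), ∀ W (k : W ⟶ Z.affineCover.X i)
      (hk : (S.pullback g).arrows (k ≫ Z.affineCover.f i)), F.map k.op t = s _ hk := by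
    intro i
    let s' : Presieve.FamilyOfElements F (S.pullback (Z.affineCover.f i ≫ g)).arrows :=
      fun W k hk => s (k ≫ Z.affineCover.f i) (by simpa using hk)
    have hs' : s'.Compatible := fun _ _ _ g₁ g₂ f₁ f₂ h₁ h₂ e => hs g₁ g₂ _ _ (by rw [← Category.assoc, e, Category.assoc])
    obtain ⟨t, ht, -⟩ := h _ (Z.affineCover.f i ≫ g) s' hs'
    exact ⟨t, fun W k hk => ht k (by simpa using hk)⟩
  choose t ht using haff
  have hcomp : Presieve.Arrows.Compatible F Z.affineCover.f t := by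
    intro i j W gi gj e
    refine (hsep W (gi ≫ Z.affineCover.f i ≫ g)).ext fun V k hk => ?_
    have hk' : (S.pullback g).arrows ((k ≫ gi) ≫ Z.affineCover.f i) := by simpa using hk
    have hk'' : (S.pullback g).arrows ((k ≫ gj) ≫ Z.affineCover.f j) := by
      rw [Category.assoc, ← e, ← Category.assoc]; exact hk'
    rw [← Functor.map_comp_apply, ← Functor.map_comp_apply, ← op_comp, ← op_comp, ht i _ _ hk', ht j _ _ hk'']
    congr 1
    rw [Category.assoc, e, Category.assoc]
  obtain ⟨x, hx, -⟩ := (Presieve.isSheafFor_arrows_iff _ _).1 (hcov Z) t hcomp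
  have hext : ∀ W (f : W ⟶ Z) (hf : (S.pullback g).arrows f), F.map f.op x = s f hf := by
    intro W f hf
    have hsW : Presieve.IsSeparatedFor F
        ((Sieve.generate (Presieve.ofArrows _ Z.affineCover.f)).pullback f).arrows :=
      (openCover_mem hZ Z.affineCover W f).isSeparatedFor
    refine hsW.ext fun V k hk => ?_
    obtain ⟨Y, m, _, ⟨i⟩, hm⟩ := hk
    rw [← Functor.map_comp_apply, ← op_comp, ← hm, op_comp, Functor.map_comp_apply, hx]
    have hm' : (S.pullback g).arrows (m ≫ Z.affineCover.f i) := by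
      rw [hm]; exact (S.pullback g).downward_closed hf k
    rw [ht i _ m hm']
    have h2 := hs (𝟙 V) k hm' hf (by rw [Category.id_comp, hm])
    simpa using h2
  exact ⟨x, hext, fun y hy => (hsep Z g).ext fun W f hf => (hy f hf).trans (hext W f hf).symm⟩

/-- transport of a standard V covering to another indexing type -/
lemma isStandardV_reindex {T : Scheme.{u}} {E : PreZeroHypercover.{w} T} (hE : HTop.IsStandardV E) {ι : Type w'}
    (e : ι ≃ E.I₀) : HTop.IsStandardV (E.reindex e) where
  isAffine := hE.isAffine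
  finite_index := haveI := hE.finite_index; Finite.of_equiv _ e.symm
  isAffine_obj j := hE.isAffine_obj (e j)
  lift := by
    intro V _ _ g
    obtain ⟨W, iW, iW', φ, hφ, i, g', hg'⟩ := hE.lift V g
    obtain ⟨j, rfl⟩ := e.surjective i
    exact ⟨W, iW, iW', φ, hφ, j, g', hg'⟩

lemma exists_reindex {T : Scheme.{u}} {E : PreZeroHypercover.{w} T} (hE : HTop.IsStandardV E) :
    ∃ E' : PreZeroHypercover.{w'} T, HTop.IsStandardV E' ∧ E'.presieve₀ = E.presieve₀ := by
  haveI := hE.finite_index
  obtain ⟨n, ⟨e⟩⟩ := Finite.exists_equiv_fin E.I₀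
  exact ⟨E.reindex (Equiv.ulift.{w', 0}.trans e.symm), isStandardV_reindex hE _,
    (E.presieve₀_reindex _)⟩

lemma isVCover_of_isStandardV {T : Scheme.{u}} {E : PreZeroHypercover.{w} T} (hE : HTop.IsStandardV E) :
    HTop.IsVCover E := by
  intro U
  haveI : IsAffine ((U : T.Opens) : Scheme.{u}) := U.2
  have h2 := isStandardV_pullback₁ (U : T.Opens).ι hE
  haveI := h2.finite_index
  obtain ⟨n, ⟨e⟩⟩ := Finite.exists_equiv_fin (E.pullback₁ (U : T.Opens).ι).I₀
  refine ⟨(E.pullback₁ (U : T.Opens).ι).reindex e.symm, isStandardV_reindex h2 _, fun j => ?_⟩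
  exact ⟨e.symm j, pullback.snd _ _, pullback.condition.symm⟩

/-- the standard covers are covering as soon as `F` has the sheaf property for them -/
theorem standard_mem (hZ : Presieve.IsSheaf Scheme.zariskiTopology F)
    (h : ∀ (T : Scheme.{u}) (E : PreZeroHypercover.{u} T), HTop.IsStandardV E → Presieve.IsSheafFor F E.presieve₀)
    {T : Scheme.{u}} {E : PreZeroHypercover.{w} T} (hE : HTop.IsStandardV E) :
    Sieve.generate E.presieve₀ ∈ topOf F T := by
  refine mem_of_affine hZ _ fun U _ g => ?_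
  obtain ⟨E', hE', heq⟩ := exists_reindex.{w, u} (isStandardV_pullback₁ g hE)
  have h1 : (Sieve.generate E.presieve₀).pullback g = Sieve.generate E'.presieve₀ := by
    rw [heq]
    ext Y k
    constructor
    · rintro ⟨_, m, _, ⟨i⟩, hm⟩
      exact ⟨_, pullback.lift k m hm.symm, _, ⟨i⟩, pullback.lift_fst _ _ _⟩
    · rintro ⟨_, m, _, ⟨(i : E.I₀)⟩, rfl⟩
      refine ⟨E.X i, m ≫ pullback.snd _ _, _, ⟨i⟩, ?_⟩
      change (m ≫ pullback.snd g (E.f i)) ≫ E.f i = (m ≫ pullback.fst g (E.f i)) ≫ g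
      exact (Category.assoc _ _ _).trans ((congrArg (m ≫ ·) pullback.condition.symm).trans (Category.assoc _ _ _).symm)
  rw [h1, ← Presieve.isSheafFor_iff_generate]
  exact h U E' hE'

lemma affineOpens_mem (hZ : Presieve.IsSheaf Scheme.zariskiTopology F) (T : Scheme.{u}) :
    Sieve.generate (Presieve.ofArrows (fun U : T.affineOpens => ((U : T.Opens) : Scheme.{u}))
      fun U => (U : T.Opens).ι) ∈ topOf F T :=
  openCover_mem hZ (T.openCoverOfIsOpenCover _ (iSup_affineOpens_eq_top T))

lemma mem_of_refining (hZ : Presieve.IsSheaf Scheme.zariskiTopology F) {T : Scheme.{u}}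
    (E : PreZeroHypercover.{w} T)
    (h : ∀ U : T.affineOpens, ∃ G : PreZeroHypercover.{w'} ((U : T.Opens) : Scheme.{u}),
      Sieve.generate G.presieve₀ ∈ topOf F _ ∧ HTop.RefinesOver (U : T.Opens).ι G E) :
    Sieve.generate E.presieve₀ ∈ topOf F T := by
  refine (topOf F).transitive (affineOpens_mem hZ T) _ ?_
  rintro Y f ⟨_, m, _, ⟨U⟩, rfl⟩
  rw [Sieve.pullback_comp]
  refine (topOf F).pullback_stable m ?_
  obtain ⟨G, hG, href⟩ := h U
  refine (topOf F).superset_covering ?_ hG
  rw [Sieve.generate_le_iff]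
  rintro W k ⟨j⟩
  obtain ⟨i, l, hl⟩ := href j
  exact ⟨_, l, _, ⟨i⟩, hl⟩

theorem isVSheaf_of (hZ : Presieve.IsSheaf Scheme.zariskiTopology F)
    (h : ∀ (T : Scheme.{u}) (E : PreZeroHypercover.{u} T), HTop.IsStandardV E → Presieve.IsSheafFor F E.presieve₀) :
    HTop.IsVSheaf F := by
  intro X R hR
  obtain ⟨E, hE, rfl⟩ := PreZeroHypercoverFamily.mem_precoverage_iff.1 hR
  refine isSheafFor_of_mem (mem_of_refining hZ E fun U => ?_)
  obtain ⟨G, hG, href⟩ := hE U
  exact ⟨G, standard_mem hZ h hG, href⟩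

theorem zariski_of_isVSheaf (h : HTop.IsVSheaf F) : Presieve.IsSheaf Scheme.zariskiTopology F := by
  rw [Precoverage.isSheaf_toGrothendieck_iff_of_isStableUnderBaseChange]
  intro X R hR
  obtain ⟨(𝒰 : X.OpenCover), rfl⟩ := Scheme.exists_cover_of_mem_pretopology hR
  exact h _ ((HTop.presieve₀_mem_vPrecoverage_iff 𝒰.toPreZeroHypercover).2
    (isVCover_of_fpqc _ fun i => inferInstance))

theorem standard_of_isVSheaf (h : HTop.IsVSheaf F) {T : Scheme.{u}} {E : PreZeroHypercover.{w} T}
    (hE : HTop.IsStandardV E) : Presieve.IsSheafFor F E.presieve₀ :=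
  h _ ((HTop.presieve₀_mem_vPrecoverage_iff E).2 (isVCover_of_isStandardV hE))

lemma isStandardV_singleton_desc {T : Scheme.{u}} {E : PreZeroHypercover.{u} T} (hE : HTop.IsStandardV E) :
    HTop.IsStandardV (PreZeroHypercover.singleton.{w} (Sigma.desc E.f)) where
  isAffine := hE.isAffine
  finite_index := inferInstanceAs (Finite PUnit)
  isAffine_obj _ :=
    haveI := hE.finite_index
    haveI := hE.isAffine_obj
    inferInstanceAs (IsAffine (∐ E.X))
  lift := by
    intro V _ _ g
    obtain ⟨W, iW, iW', φ, hφ, i, g', hg'⟩ := hE.lift V g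
    refine ⟨W, iW, iW', φ, hφ, PUnit.unit, g' ≫ Sigma.ι E.X i, ?_⟩
    change (g' ≫ Sigma.ι E.X i) ≫ Sigma.desc E.f = _
    rw [Category.assoc, Sigma.ι_desc, hg']

theorem isVSheaf_of_singleton (hZ : Presieve.IsSheaf Scheme.zariskiTopology F)
    (h : ∀ (U V : Scheme.{u}) (f : V ⟶ U), HTop.IsStandardV (PreZeroHypercover.singleton.{w} f) →
      Presieve.IsSheafFor F (Presieve.singleton f)) : HTop.IsVSheaf F := by
  refine isVSheaf_of hZ fun T E hE => ?_
  refine isSheafFor_of_mem ((topOf F).transitive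
    (S := Sieve.generate (Presieve.singleton (Sigma.desc E.f))) ?_ _ ?_)
  · refine mem_of_affine hZ _ fun U _ g => ?_
    have h2 : HTop.IsStandardV (PreZeroHypercover.singleton.{w} (pullback.snd (Sigma.desc E.f) g)) := by
      refine { isAffine := ‹_›, finite_index := inferInstanceAs (Finite PUnit), isAffine_obj := ?_, lift := ?_ }
      · intro _
        haveI := hE.isAffine
        haveI := hE.finite_index
        haveI := hE.isAffine_obj
        exact inferInstanceAs (IsAffine (pullback (Sigma.desc E.f) g))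
      · intro V _ _ k
        obtain ⟨W, iW, iW', φ, hφ, i, g', hg'⟩ := hE.lift V (k ≫ g)
        refine ⟨W, iW, iW', φ, hφ, PUnit.unit, pullback.lift (g' ≫ Sigma.ι E.X i) (Spec.map φ ≫ k) ?_, ?_⟩
        · rw [Category.assoc, Sigma.ι_desc, hg', Category.assoc]
        · exact pullback.lift_snd _ _ _
    rw [← Sieve.pullbackArrows_comm, ← Presieve.isSheafFor_iff_generate, Presieve.pullback_singleton]
    exact h _ _ _ h2
  · rintro Y f ⟨_, m, _, ⟨⟩, rfl⟩
    rw [Sieve.pullback_comp]
    refine (topOf F).pullback_stable m ((topOf F).superset_covering ?_ (openCover_mem hZ (sigmaOpenCover E.X)))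
    rw [Sieve.generate_le_iff]
    rintro W k ⟨i⟩
    exact ⟨_, 𝟙 _, _, ⟨i⟩, (Category.id_comp _).trans (Sigma.ι_desc _ _).symm⟩

theorem isPhSheaf_of (hZ : Presieve.IsSheaf Scheme.zariskiTopology F)
    (h : ∀ (U V : Scheme.{u}) (f : V ⟶ U), IsProper f → Surjective f →
      Presieve.IsSheafFor F (Presieve.singleton f)) : HTop.IsPhSheaf F := by
  intro X R hR
  obtain ⟨E, hE, rfl⟩ := PreZeroHypercoverFamily.mem_precoverage_iff.1 hR
  refine isSheafFor_of_mem (mem_of_refining hZ E fun U => ?_)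
  obtain ⟨G, hG, href⟩ := hE.2 U
  refine ⟨G, ?_, href⟩
  obtain ⟨V, f, ι, hf, hs, hι, hcomm, hcov⟩ := hG.exists_proper
  refine (topOf F).transitive (S := Sieve.generate (Presieve.singleton f)) ?_ _ ?_
  · intro Y g
    rw [← Sieve.pullbackArrows_comm, ← Presieve.isSheafFor_iff_generate, Presieve.pullback_singleton]
    exact h _ _ _ inferInstance inferInstance
  · rintro Y k ⟨_, m, _, ⟨⟩, rfl⟩
    rw [Sieve.pullback_comp]
    haveI := hι
    choose idx hidx using hcov
    let 𝒱 : V.OpenCover := Scheme.openCoverOfIsOpenCover V (fun j => (ι j).opensRange)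
      (top_unique fun x _ => TopologicalSpace.Opens.mem_iSup.2 ⟨idx x, hidx x⟩)
    refine (topOf F).pullback_stable m ((topOf F).superset_covering ?_ (openCover_mem hZ 𝒱))
    rw [Sieve.generate_le_iff]
    rintro W l ⟨j⟩
    haveI := hι j
    refine ⟨_, (ι j).isoOpensRange.inv, _, ⟨j⟩, ?_⟩
    change (ι j).isoOpensRange.inv ≫ G.f j = (ι j).opensRange.ι ≫ f
    rw [← hcomm j, ← Category.assoc, Scheme.Hom.isoOpensRange_inv_comp]

end Groth.L28.VTop
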