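import Groth.Agent.L28.VTop.SubSquare
import Groth.Agent.L19.Approx.System
import Groth.Agent.L13.BlowUp.Exists

/-!
# Two almost blow-up squares are dominated by a third one
-/

universe u

open CategoryTheory CategoryTheory.Limits AlgebraicGeometry Opposite

namespace Groth.L28.VTop

open Groth.L19.Approx in
set_option backward.isDefEq.respectTransparency.types false in
set_option backward.isDefEq.respectTransparency false in
theorem exists_stage_isClosedImmersion {B P S : Scheme.{u}} (j : B ⟶ P) (g : P ⟶ S) [IsClosedImmersion j]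
    [CompactSpace P] [QuasiSeparatedSpace P] [CompactSpace S] [QuasiCompact g] [LocallyOfFiniteType g]
    [IsClosedImmersion (j ≫ g)] :
    ∃ i : (FGSub j.ker)ᵒᵖ, ∀ k : (FGSub j.ker)ᵒᵖ, Nonempty (k ⟶ i) →
      IsClosedImmersion (k.unop.1.subschemeι ≫ g) := by
  obtain ⟨i₀⟩ : Nonempty (FGSub j.ker) := inferInstance
  let D := fgSystem j.ker ⋙ Over.forget P
  have htr : ∀ {i i'} (f : i ⟶ i'), IsClosedImmersion (D.map f) :=
    fun f => isClosedImmersion_fgSystem_map j.ker f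
  haveI : ∀ {i i'} (f : i ⟶ i'), IsAffineHom (D.map f) := fun f => by
    haveI := htr f; infer_instance
  haveI : CompactSpace (D.obj (op i₀)) := compactSpace_subscheme i₀.1
  haveI : QuasiSeparatedSpace (D.obj (op i₀)) := quasiSeparatedSpace_overSystem j g (op i₀)
  haveI : IsClosedImmersion (((Over.forget P).mapCone (fgCone j.ker)).π.app (op i₀) ≫
      i₀.1.subschemeι ≫ g) := by
    rw [π_app_comp j g (op i₀)]; infer_instance
  obtain ⟨k, φ, hk⟩ := Groth.L19.Limit.exists_isClosedImmersion (isLimitForgetFGCone j)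
    (fun f => htr f) (i := op i₀) (i₀.1.subschemeι ≫ g)
  refine ⟨k, fun l ⟨ψ⟩ => ?_⟩
  haveI : IsClosedImmersion (D.map φ ≫ i₀.1.subschemeι ≫ g) := hk
  haveI : IsClosedImmersion (D.map ψ) := htr ψ
  have e : l.unop.1.subschemeι ≫ g = D.map ψ ≫ D.map φ ≫ i₀.1.subschemeι ≫ g := by
    rw [← Functor.map_comp_assoc, ← Category.assoc (D.map (ψ ≫ φ))]
    congr 1
    exact (Over.w ((fgSystem j.ker).map (ψ ≫ φ))).symm
  rw [e]
  infer_instance

open Groth.L19.Approx in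
theorem exists_common {Z X E₁ X₁ E₂ X₂ : Scheme.{u}} [CompactSpace X] [QuasiSeparatedSpace X] (i : Z ⟶ X)
    {e₁ : E₁ ⟶ X₁} {π₁ : E₁ ⟶ Z} {b₁ : X₁ ⟶ X} (h₁ : HTop.IsAlmostBlowUpSquare e₁ π₁ b₁ i)
    {e₂ : E₂ ⟶ X₂} {π₂ : E₂ ⟶ Z} {b₂ : X₂ ⟶ X} (h₂ : HTop.IsAlmostBlowUpSquare e₂ π₂ b₂ i) :
    ∃ (E X' : Scheme.{u}) (e : E ⟶ X') (π : E ⟶ Z) (b : X' ⟶ X) (j₁ : X' ⟶ X₁) (j₂ : X' ⟶ X₂),
      HTop.IsAlmostBlowUpSquare e π b i ∧ IsClosedImmersion j₁ ∧ IsClosedImmersion j₂ ∧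
        j₁ ≫ b₁ = b ∧ j₂ ≫ b₂ = b := by
  haveI := h₁.isProper
  haveI := h₁.finitePresentation
  haveI := h₂.isProper
  haveI := h₂.finitePresentation
  set K₁ := HTop.supportedOn (i.ker.comap b₁) with hK₁
  set K₂ := HTop.supportedOn (i.ker.comap b₂) with hK₂
  obtain ⟨θ, hθ, -⟩ := h₂.isBlowUp.2 _ _ h₁.isBlowUp.1
  haveI : IsIso θ := Groth.L13.BU.isIso_of_blowUps h₂.isBlowUp h₁.isBlowUp θ hθ
  let ι₁ := K₁.subschemeι
  let ι₂ : K₁.subscheme ⟶ X₂ := θ ≫ K₂.subschemeι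
  have hι : ι₁ ≫ b₁ = ι₂ ≫ b₂ := by
    show K₁.subschemeι ≫ b₁ = (θ ≫ K₂.subschemeι) ≫ b₂
    rw [Category.assoc]; exact hθ.symm
  haveI : CompactSpace X₁ := QuasiCompact.compactSpace_of_compactSpace b₁
  haveI : CompactSpace X₂ := QuasiCompact.compactSpace_of_compactSpace b₂
  haveI : QuasiSeparatedSpace X₁ := quasiSeparatedSpace_of_quasiSeparated b₁
  let q : K₁.subscheme ⟶ pullback b₁ b₂ := pullback.lift ι₁ ι₂ hι
  haveI : IsClosedImmersion (q ≫ pullback.fst b₁ b₂) := by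
    rw [pullback.lift_fst]; exact inferInstanceAs (IsClosedImmersion K₁.subschemeι)
  haveI : IsClosedImmersion (q ≫ pullback.snd b₁ b₂) := by
    rw [pullback.lift_snd]; exact inferInstanceAs (IsClosedImmersion (θ ≫ K₂.subschemeι))
  haveI : IsClosedImmersion q := IsClosedImmersion.of_comp q (pullback.fst b₁ b₂)
  haveI : CompactSpace ↥(pullback b₁ b₂) := QuasiCompact.compactSpace_of_compactSpace (pullback.fst b₁ b₂)
  haveI : QuasiSeparatedSpace ↥(pullback b₁ b₂) :=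
    quasiSeparatedSpace_of_quasiSeparated (pullback.fst b₁ b₂)
  obtain ⟨k₁, hk₁⟩ := exists_stage_isClosedImmersion q (pullback.fst b₁ b₂)
  obtain ⟨k₂, hk₂⟩ := exists_stage_isClosedImmersion q (pullback.snd b₁ b₂)
  let k : (FGSub q.ker)ᵒᵖ := IsCofiltered.min k₁ k₂
  let w₁ : k.unop.1.subscheme ⟶ X₁ := k.unop.1.subschemeι ≫ pullback.fst b₁ b₂
  haveI : IsClosedImmersion w₁ := hk₁ k ⟨IsCofiltered.minToLeft _ _⟩
  haveI : LocallyOfFinitePresentation k.unop.1.subschemeι := lfp_subschemeι k.unop.2.2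
  haveI : LocallyOfFinitePresentation w₁ := inferInstanceAs (LocallyOfFinitePresentation (_ ≫ _))
  have hle : w₁.ker ≤ HTop.supportedOn (i.ker.comap b₁) := by
    let l := IsClosedImmersion.lift k.unop.1.subschemeι q
      (k.unop.1.ker_subschemeι.le.trans k.unop.2.1)
    have hl : l ≫ w₁ = ι₁ := by
      rw [IsClosedImmersion.lift_fac_assoc, pullback.lift_fst]
    calc w₁.ker ≤ (l ≫ w₁).ker := Scheme.Hom.le_ker_comp _ _
      _ = K₁.subschemeι.ker := by rw [hl]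
      _ = _ := by rw [Scheme.IdealSheafData.ker_subschemeι, hK₁]
  refine ⟨_, _, pullback.snd e₁ w₁, pullback.fst e₁ w₁ ≫ π₁, w₁ ≫ b₁, w₁,
    k.unop.1.subschemeι ≫ pullback.snd b₁ b₂, (isAlmostBlowUpSquare_sub h₁ w₁ (IsPullback.of_hasPullback e₁ w₁)).1 hle,
    inferInstance, hk₂ k ⟨IsCofiltered.minToRight _ _⟩, rfl, ?_⟩
  show _ = (k.unop.1.subschemeι ≫ pullback.fst b₁ b₂) ≫ b₁
  rw [Category.assoc, Category.assoc, pullback.condition]

end Groth.L28.VTop
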