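import Groth.Agent.L28.VTop.BaseChange
import Groth.Agent.L19.Approx.FactorSystem
import Groth.Agent.L19.Approx.IdealStage
import Groth.Agent.L19.Approx.Closed
import Groth.Agent.L13.BlowUp.Proper
import Mathlib.AlgebraicGeometry.Noetherian

/-!
# Almost blow-up squares exist
-/

universe u

open CategoryTheory CategoryTheory.Limits AlgebraicGeometry Opposite

namespace Groth.L28.VTop

set_option backward.isDefEq.respectTransparency.types false

/-- Finite type ideals descend to schemes of finite type over `ℤ`. -/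
theorem exists_noetherian_descent {X : Scheme.{u}} [CompactSpace X] [QuasiSeparatedSpace X]
    (J : X.IdealSheafData) (hJ : Groth.L19.Approx.FGOn J ⊤) :
    ∃ (X₀ : Scheme.{u}) (g : X ⟶ X₀) (K : X₀.IdealSheafData), IsLocallyNoetherian X₀ ∧
      Groth.L19.Approx.FGOn K ⊤ ∧ K.comap g = J := by
  let S₀ : Scheme.{u} := Spec (CommRingCat.of (ULift.{u} ℤ))
  obtain ⟨M, g, a, hg, hM, hM', ha, -⟩ := Groth.L19.Approx.affFactors (specULiftZIsTerminal.from X : X ⟶ S₀)
  let sys := Groth.L19.Approx.system a (⊤ : MorphismProperty Scheme.{u})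
  let D := sys ⋙ Over.forget M
  haveI := Groth.L19.Approx.isCofiltered_idx a
  haveI : ∀ {i j} (φ : i ⟶ j), IsAffineHom (D.map φ) :=
    fun φ => Groth.L19.Approx.isAffineHom_system_map a ⊤ φ
  haveI : ∀ i, CompactSpace (D.obj i) := fun i => Groth.L19.Approx.compactSpace_factorSystem a g i
  haveI : ∀ i, QuasiSeparatedSpace (D.obj i) := fun i => Groth.L19.Approx.quasiSeparatedSpace_factorSystem a g i
  obtain ⟨j, K, hK, hKJ⟩ := Groth.L19.Approx.exists_fgOn_stage (D := D)
    (Groth.L19.Approx.nonempty_isLimit_forget_cone a).some J hJ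
  haveI : LocallyOfFinitePresentation ((Groth.L19.Approx.factorSystem a g).obj j).hom :=
    Groth.L19.Approx.lfp_factorSystem a g j
  haveI : IsNoetherianRing (ULift.{u} ℤ) := isNoetherianRing_of_ringEquiv ℤ ULift.ringEquiv.symm
  haveI : IsNoetherianRing (CommRingCat.of (ULift.{u} ℤ)) := ‹IsNoetherianRing (ULift.{u} ℤ)›
  haveI : IsLocallyNoetherian S₀ := inferInstanceAs (IsLocallyNoetherian (Spec (CommRingCat.of (ULift.{u} ℤ))))
  let p : D.obj j ⟶ S₀ := ((Groth.L19.Approx.factorSystem a g).obj j).hom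
  haveI hp : LocallyOfFinitePresentation p := Groth.L19.Approx.lfp_factorSystem a g j
  exact ⟨D.obj j, _, K, LocallyOfFiniteType.isLocallyNoetherian p, hK, hKJ⟩

theorem exists_almostBlowUp {Z X : Scheme.{u}} [CompactSpace X] [QuasiSeparatedSpace X] (i : Z ⟶ X)
    [IsClosedImmersion i] [LocallyOfFinitePresentation i] :
    ∃ (E X' : Scheme.{u}) (e : E ⟶ X') (π : E ⟶ Z) (b : X' ⟶ X), HTop.IsAlmostBlowUpSquare e π b i := by
  obtain ⟨X₀, g, K, hX₀, hK, hg⟩ := exists_noetherian_descent i.ker (Groth.L19.Approx.fgOn_ker i)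
  obtain ⟨B, b, hb⟩ := Groth.L13.BU.exists_isBlowUp K
  haveI : IsProper b := Groth.L13.BU.isProper_blowUp hb fun U => hK U le_top
  haveI : LocallyOfFinitePresentation b :=
    LocallyOfFinitePresentation.iff_locallyOfFiniteType.2 inferInstance
  haveI : LocallyOfFinitePresentation K.subschemeι := Groth.L19.Approx.lfp_subschemeι hK
  have h₀ : HTop.IsAlmostBlowUpSquare (pullback.fst b K.subschemeι) (pullback.snd b K.subschemeι) b K.subschemeι := by
    refine ⟨inferInstance, inferInstance, IsPullback.of_hasPullback _ _, ?_, inferInstance, inferInstance, ?_⟩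
    · rw [Scheme.IdealSheafData.ker_subschemeι]
      intro x
      obtain ⟨U, hxU, f, -, hU⟩ := hb.1 x
      exact ⟨U, hxU, f, hU⟩
    · rw [Scheme.IdealSheafData.ker_subschemeι, supportedOn_eq_bot hb.1]
      haveI : IsIso (⊥ : B.IdealSheafData).subschemeι :=
        IsClosedImmersion.isIso_iff_ker_eq_bot.2 (Scheme.IdealSheafData.ker_subschemeι _)
      exact isBlowUp_of_iso_source (asIso (⊥ : B.IdealSheafData).subschemeι) hb
  haveI : IsClosedImmersion (pullback.snd K.subschemeι g) := inferInstance
  have hker : i.ker = (pullback.snd K.subschemeι g).ker := by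
    rw [ker_of_isPullback (IsPullback.of_hasPullback K.subschemeι g), Scheme.IdealSheafData.ker_subschemeι, hg]
  haveI := IsClosedImmersion.isIso_lift (pullback.snd K.subschemeι g) i hker.symm
  let l := IsClosedImmersion.lift (pullback.snd K.subschemeι g) i hker.symm.le
  have hZ : IsPullback (l ≫ pullback.fst K.subschemeι g) i K.subschemeι g := by
    refine (IsPullback.of_hasPullback K.subschemeι g).of_iso (asIso l).symm (Iso.refl _) (Iso.refl _) (Iso.refl _)
      ?_ ?_ ?_ ?_
    · simp
    · simp only [Iso.refl_hom, Category.comp_id, Iso.symm_hom, asIso_inv, IsIso.eq_inv_comp]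
      exact IsClosedImmersion.lift_fac _ _ _
    · simp
    · simp
  let eE := pullback.snd (pullback.fst b K.subschemeι) (pullback.fst b g)
  let gE := pullback.fst (pullback.fst b K.subschemeι) (pullback.fst b g)
  have hw : (gE ≫ pullback.snd b K.subschemeι) ≫ K.subschemeι = (eE ≫ pullback.snd b g) ≫ g := by
    show (gE ≫ _) ≫ _ = (eE ≫ _) ≫ _
    rw [Category.assoc, ← pullback.condition, ← Category.assoc,
      show gE ≫ pullback.fst b K.subschemeι = eE ≫ pullback.fst b g from pullback.condition, Category.assoc,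
      pullback.condition, Category.assoc]
  exact ⟨_, _, eE, hZ.lift _ _ hw, pullback.snd b g, isAlmostBlowUpSquare_baseChange h₀ g
    (IsPullback.of_hasPullback b g) hZ (IsPullback.of_hasPullback _ _) (hZ.lift_snd _ _ hw)⟩

end Groth.L28.VTop
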