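import Mathlib.AlgebraicGeometry.Sites.Fpqc
import Mathlib.AlgebraicGeometry.Morphisms.Flat
import Mathlib.AlgebraicGeometry.Limits
import Mathlib.AlgebraicGeometry.Morphisms.QuasiSeparated

/-!
# Membership in the fpqc precoverage
-/

universe w w' u

open CategoryTheory CategoryTheory.Limits AlgebraicGeometry

namespace Groth.L28.VTop

lemma mem_fpqc_iff {T : Scheme.{u}} {E : PreZeroHypercover.{w} T} :
    E.presieve₀ ∈ Scheme.fpqcPrecoverage T ↔
      QuasiCompactCover E ∧ (∀ x, ∃ i, x ∈ Set.range (E.f i)) ∧ ∀ i, Flat (E.f i) :=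
  and_congr Scheme.presieve₀_mem_qcPrecoverage_iff (Scheme.presieve₀_mem_precoverage_iff _)

/-- Mathlib's instance with two independent universes for the indexing types -/
lemma qcc_bind {X : Scheme.{u}} (𝒰 : PreZeroHypercover.{w} X) (f : ∀ (x : 𝒰.I₀), PreZeroHypercover.{w'} (𝒰.X x))
    (h : QuasiCompactCover 𝒰) (hf : ∀ x, QuasiCompactCover (f x)) : QuasiCompactCover (𝒰.bind f) where
  isCompactOpenCovered_of_isAffineOpen {U} hU := by
    obtain ⟨s, hs, V, hcV, hU⟩ := hU.isCompactOpenCovered 𝒰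
    have (i) (hi) : IsCompactOpenCovered ((f i).f ·) (V i hi) :=
      haveI := hf i
      QuasiCompactCover.isCompactOpenCovered_of_isCompact (f i) (hcV i hi)
    choose t ht W hcW hV using this
    have : Finite s := hs
    have (i) (hi) : Finite (t i hi) := ht i hi
    refine .of_finite (κ := Σ (i : s), t i.1 i.2) (fun p ↦ ⟨p.1, p.2⟩) (fun p ↦ W _ p.1.2 _ p.2.2)
      (fun p ↦ hcW ..) ?_
    simpa [← hV, Set.iUnion_sigma, Set.iUnion_subtype, Set.image_iUnion, Set.image_image] using! hU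

theorem qcc_iff_nhds {T : Scheme.{u}} [QuasiSeparatedSpace T] (E : PreZeroHypercover.{w} T) :
    QuasiCompactCover E ↔ ∀ t : T, ∃ (n : ℕ) (i : Fin n → E.I₀) (V : ∀ j, (E.X (i j)).Opens),
      (∀ j, IsCompact (V j : Set (E.X (i j)))) ∧
        (⋃ j, ⇑(E.f (i j)) '' (V j : Set (E.X (i j)))) ∈ nhds t := by
  constructor
  · intro h t
    obtain ⟨U, hU, ht, -⟩ := TopologicalSpace.Opens.isBasis_iff_nbhd.mp T.isBasis_affineOpens
      (show t ∈ (⊤ : T.Opens) from trivial)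
    obtain ⟨n, i, V, hV, heq⟩ := QuasiCompactCover.exists_isAffineOpen_of_isCompact E hU.isCompact
    exact ⟨n, i, V, fun j => (hV j).isCompact, heq ▸ U.2.mem_nhds ht⟩
  · refine fun h => ⟨fun {U} hU => ?_⟩
    refine .of_isCompact_of_forall_exists_isCompactOpenCovered hU.isCompact fun x hx => ?_
    obtain ⟨n, i, V, hV, hn⟩ := h x
    obtain ⟨O, hO, hOo, hxO⟩ := mem_nhds_iff.1 hn
    obtain ⟨W, hW, hxW, hle⟩ := TopologicalSpace.Opens.isBasis_iff_nbhd.mp T.isBasis_affineOpens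
      (show x ∈ U ⊓ ⟨O, hOo⟩ from ⟨hx, hxO⟩)
    refine ⟨W, fun y hy => (hle hy).1, hxW, W.2, .of_finite i (fun j => V j ⊓ E.f (i j) ⁻¹ᵁ W) ?_ ?_⟩
    · intro j
      haveI : CompactSpace (V j : Scheme.{u}) := isCompact_iff_compactSpace.mp (hV j)
      haveI : QuasiCompact ((V j).ι ≫ E.f (i j)) := by
        haveI : QuasiSeparated (terminal.from T) := (quasiSeparatedSpace_iff_quasiSeparated _).1 ‹_›
        haveI : QuasiCompact (((V j).ι ≫ E.f (i j)) ≫ terminal.from T) :=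
          (compactSpace_iff_quasiCompact _).1 ‹_› |> fun h => by rwa [terminal.hom_ext (_ ≫ terminal.from T) (terminal.from _)]
        exact QuasiCompact.of_comp _ (terminal.from T)
      have hc := (((V j).ι ≫ E.f (i j)).isCompact_preimage hW.isCompact).image (V j).ι.continuous
      convert hc using 1
      ext y
      simp only [Set.mem_image, Set.mem_preimage, TopologicalSpace.Opens.carrier_eq_coe,
        TopologicalSpace.Opens.coe_inf, Set.mem_inter_iff, SetLike.mem_coe]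
      constructor
      · rintro ⟨hy, hy'⟩
        exact ⟨⟨y, hy⟩, hy', rfl⟩
      · rintro ⟨z, hz, rfl⟩
        exact ⟨z.2, hz⟩
    · refine subset_antisymm (Set.iUnion_subset fun j => Set.image_subset_iff.2 fun y hy => hy.2) fun y hy => ?_
      obtain ⟨j, z, hz, rfl⟩ := Set.mem_iUnion.1 (hO (hle hy).2)
      exact Set.mem_iUnion.2 ⟨j, z, ⟨hz, hy⟩, rfl⟩

theorem fpqc_of_locally {T : Scheme.{u}} (E : PreZeroHypercover.{u} T) (hflat : ∀ i, Flat (E.f i))
    (𝒱 : Scheme.Cover.{w} Scheme.fpqcPrecoverage T)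
    (hloc : ∀ j, (E.pullback₁ (𝒱.f j)).presieve₀ ∈ Scheme.fpqcPrecoverage (𝒱.X j)) :
    E.presieve₀ ∈ Scheme.fpqcPrecoverage T := by
  obtain ⟨h1, h2, -⟩ := mem_fpqc_iff.1 𝒱.mem₀
  haveI := h1
  haveI : ∀ j, QuasiCompactCover (E.pullback₁ (𝒱.f j)) := fun j => (mem_fpqc_iff.1 (hloc j)).1
  let φ : (𝒱.toPreZeroHypercover.bind fun j => E.pullback₁ (𝒱.f j)).Hom E :=
    { s₀ := fun p => p.2
      h₀ := fun p => pullback.snd _ _
      w₀ := fun p => pullback.condition.symm }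
  haveI : QuasiCompactCover (𝒱.toPreZeroHypercover.bind fun j => E.pullback₁ (𝒱.f j)) :=
    qcc_bind _ _ h1 this
  refine mem_fpqc_iff.2 ⟨.of_hom φ, fun x => ?_, hflat⟩
  obtain ⟨j, y, rfl⟩ := h2 x
  obtain ⟨i, z, hz⟩ := (mem_fpqc_iff.1 (hloc j)).2.1 y
  refine ⟨i, pullback.snd (𝒱.f j) (E.f i) z, ?_⟩
  subst hz
  exact (congrArg (fun k : _ ⟶ T => k z) (pullback.condition (f := 𝒱.f j) (g := E.f i))).symm

theorem fpqc_iff_sigmaDesc {T : Scheme.{u}} (E : PreZeroHypercover.{u} T) :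
    E.presieve₀ ∈ Scheme.fpqcPrecoverage T ↔ Presieve.singleton (Sigma.desc E.f) ∈ Scheme.fpqcPrecoverage T := by
  rw [← PreZeroHypercover.presieve₀_singleton.{u} (Sigma.desc E.f), mem_fpqc_iff, mem_fpqc_iff]
  constructor
  · rintro ⟨h1, h2, h3⟩
    let φ : E.Hom (PreZeroHypercover.singleton.{u} (Sigma.desc E.f)) :=
      { s₀ := fun _ => PUnit.unit
        h₀ := fun i => Sigma.ι E.X i
        w₀ := fun i => Sigma.ι_desc _ _ }
    refine ⟨.of_hom φ, fun x => ?_, fun _ => (haveI : ∀ i, Flat (E.f i) := h3; inferInstanceAs (Flat (Sigma.desc E.f)))⟩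
    obtain ⟨i, y, rfl⟩ := h2 x
    refine ⟨PUnit.unit, Sigma.ι E.X i y, ?_⟩
    exact congrArg (fun k : _ ⟶ T => k y) (Sigma.ι_desc E.f i)
  · rintro ⟨h1, h2, h3⟩
    let φ : ((PreZeroHypercover.singleton.{u} (Sigma.desc E.f)).bind fun _ =>
        (sigmaOpenCover E.X).toPreZeroHypercover).Hom E :=
      { s₀ := fun p => p.2
        h₀ := fun p => 𝟙 _
        w₀ := fun p => (Category.id_comp _).trans (Sigma.ι_desc _ _).symm }
    haveI := h1
    haveI : ∀ x : (PreZeroHypercover.singleton.{u} (Sigma.desc E.f)).I₀,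
        QuasiCompactCover (sigmaOpenCover E.X).toPreZeroHypercover := fun _ => inferInstance
    haveI := qcc_bind (PreZeroHypercover.singleton.{u} (Sigma.desc E.f)) _ h1
      (fun _ => (inferInstance : QuasiCompactCover (sigmaOpenCover E.X).toPreZeroHypercover))
    refine ⟨.of_hom φ, fun x => ?_, fun i => ?_⟩
    · obtain ⟨_, y, rfl⟩ := h2 x
      obtain ⟨i, z, rfl⟩ := (sigmaOpenCover E.X).exists_eq y
      exact ⟨i, z, (congrArg (fun k : _ ⟶ T => k z) (Sigma.ι_desc E.f i)).symm⟩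
    · haveI : Flat (Sigma.desc E.f) := h3 PUnit.unit
      rw [← Sigma.ι_desc E.f i]
      infer_instance

theorem fpqc_of_refining {T : Scheme.{u}} (E : PreZeroHypercover.{w} T) (hflat : ∀ i, Flat (E.f i))
    (href : ∀ (Z : Scheme.{u}) [IsAffine Z] (h : Z ⟶ T), ∃ F : PreZeroHypercover.{0} Z, Finite F.I₀ ∧
      (∀ j, IsAffine (F.X j)) ∧ (∀ z : Z, ∃ (j : F.I₀) (x : F.X j), F.f j x = z) ∧
        ∀ j, ∃ (i : E.I₀) (l : F.X j ⟶ E.X i), l ≫ E.f i = F.f j ≫ h) :
    E.presieve₀ ∈ Scheme.fpqcPrecoverage T := by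
  refine mem_fpqc_iff.2 ⟨⟨fun {U} hU => ?_⟩, fun x => ?_, hflat⟩
  · haveI : IsAffine (U : Scheme.{u}) := hU
    obtain ⟨F, hfin, haff, hsurj, hr⟩ := href U U.ι
    choose a l hl using hr
    refine IsCompactOpenCovered.of_comp (X := fun i => E.X i) (Y := fun j => F.X j) (f := fun i => ⇑(E.f i)) (a := a) (fun j => ⇑(F.f j ≫ U.ι)) (fun j => ⇑(l j))
      (fun j => (l j).continuous) (fun j => ?_) (fun i => (E.f i).continuous) U.2 ?_
    · rw [← hl j]; rfl
    · refine .of_finite id (fun _ => ⊤) (fun j => ?_) ?_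
      · haveI := haff j
        exact isCompact_univ
      · refine subset_antisymm (Set.iUnion_subset fun j => ?_) fun y hy => ?_
        · rintro _ ⟨z, -, rfl⟩
          exact (F.f j z).2
        · obtain ⟨j, z, hz⟩ := hsurj ⟨y, hy⟩
          exact Set.mem_iUnion.2 ⟨j, z, trivial, congrArg Subtype.val hz⟩
  · obtain ⟨i, y, rfl⟩ := T.affineCover.exists_eq x
    obtain ⟨F, -, -, hsurj, hr⟩ := href _ (T.affineCover.f i)
    obtain ⟨j, z, rfl⟩ := hsurj y
    obtain ⟨k, l, hl⟩ := hr j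
    exact ⟨k, l z, congrArg (fun q : _ ⟶ T => q z) hl⟩

end Groth.L28.VTop
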