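import Groth.Agent.L28.VTop.Cover
import Mathlib.AlgebraicGeometry.AffineTransitionLimit
import Mathlib.CategoryTheory.Limits.Constructions.Over.Connected
import Mathlib.RingTheory.Ideal.Maximal

/-!
# Standard V coverings and cofiltered limits of affine schemes
-/

universe w u

open CategoryTheory CategoryTheory.Limits AlgebraicGeometry IsLocalRing Opposite

namespace Groth.L28.VTop

section Ring

variable {V B : Type u} [CommRing V] [IsDomain V] [IsLocalRing V] [CommRing B] (φ : V →+* B)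

/-- No pair of specialising primes lies over the two extreme primes. -/
def BadHom : Prop := ∃ c : V, c ≠ 0 ∧ ∃ x ∈ (maximalIdeal V).map φ, φ c * (1 - x) = 0

theorem exists_primes_of_not_bad (h : ¬ BadHom φ) :
    ∃ q p : Ideal B, q.IsPrime ∧ p.IsPrime ∧ q ≤ p ∧ q.comap φ = ⊥ ∧ p.comap φ = maximalIdeal V := by
  let J : Ideal B :=
    { carrier := {y | ∃ c : V, c ≠ 0 ∧ φ c * y = 0}
      add_mem' := fun {y z} ⟨c, hc, hy⟩ ⟨d, hd, hz⟩ => ⟨c * d, mul_ne_zero hc hd, by
        rw [map_mul, mul_add, show φ c * φ d * y = φ d * (φ c * y) by ring, hy,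
          show φ c * φ d * z = φ c * (φ d * z) by ring, hz, mul_zero, mul_zero, add_zero]⟩
      zero_mem' := ⟨1, one_ne_zero, mul_zero _⟩
      smul_mem' := fun b y ⟨c, hc, hy⟩ => ⟨c, hc, by
        rw [smul_eq_mul, mul_left_comm, hy, mul_zero]⟩ }
  have hne : J ⊔ (maximalIdeal V).map φ ≠ ⊤ := by
    intro htop
    obtain ⟨y, ⟨c, hc, hy⟩, x, hx, hxy⟩ := Submodule.mem_sup.1 ((Ideal.eq_top_iff_one _).1 htop)
    exact h ⟨c, hc, x, hx, by rw [← hxy, add_sub_cancel_right]; exact hy⟩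
  obtain ⟨p, hp, hle⟩ := Ideal.exists_le_maximal _ hne
  haveI := hp.isPrime
  let M : Submonoid B := p.primeCompl ⊔ (nonZeroDivisors V).map φ
  have hM : Disjoint ((⊥ : Ideal B) : Set B) M := by
    rw [Set.disjoint_left]
    intro z hz hzM
    obtain ⟨s, hs, t, ht, rfl⟩ := Submonoid.mem_sup.1 hzM
    obtain ⟨c, hc, rfl⟩ := Submonoid.mem_map.1 ht
    exact hs (hle (Ideal.mem_sup_left ⟨c, nonZeroDivisors.ne_zero hc, by rw [mul_comm]; exact hz⟩))
  obtain ⟨q, hq, -, hqM⟩ := Ideal.exists_le_prime_disjoint _ _ hM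
  refine ⟨q, p, hq, hp.isPrime, fun z hz => ?_, ?_, ?_⟩
  · by_contra hzp
    exact Set.disjoint_left.1 hqM hz (Submonoid.mem_sup_left hzp)
  · rw [eq_bot_iff]
    intro c hc
    by_contra h0
    exact Set.disjoint_left.1 hqM hc
      (Submonoid.mem_sup_right ⟨c, mem_nonZeroDivisors_of_ne_zero h0, rfl⟩)
  · refine ((IsLocalRing.maximalIdeal.isMaximal V).eq_of_le (Ideal.IsPrime.ne_top inferInstance) ?_).symm
    exact Ideal.map_le_iff_le_comap.1 (le_sup_right.trans hle)

theorem not_bad_of_primes {q p : Ideal B} (hq : q.IsPrime) (hp : p.IsPrime) (hqp : q ≤ p)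
    (h0 : q.comap φ = ⊥) (hm : p.comap φ = maximalIdeal V) : ¬ BadHom φ := by
  rintro ⟨c, hc, x, hx, he⟩
  have hxp : x ∈ p := (Ideal.map_le_iff_le_comap.2 hm.ge) hx
  rcases hq.mem_or_mem (show φ c * (1 - x) ∈ q by rw [he]; exact zero_mem _) with h | h
  · exact hc (by simpa [h0] using (show c ∈ q.comap φ from h))
  · exact hp.ne_top ((Ideal.eq_top_iff_one _).2 (by simpa using add_mem (hqp h) hxp))

end Ring

variable {V : CommRingCat.{u}} [IsDomain V] [ValuationRing V]

/-- The coordinate ring of an affine scheme over a valuation ring. -/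
noncomputable def coord {P : Scheme.{u}} (p : P ⟶ Spec V) : V ⟶ Γ(P, ⊤) :=
  (Scheme.ΓSpecIso V).inv ≫ p.appTop

lemma coord_comp {P P' : Scheme.{u}} (h : P' ⟶ P) (p : P ⟶ Spec V) :
    coord (h ≫ p) = coord p ≫ h.appTop := by
  rw [coord, coord, Scheme.Hom.comp_appTop, Category.assoc]

lemma toSpecΓ_coord {P : Scheme.{u}} (p : P ⟶ Spec V) : P.toSpecΓ ≫ Spec.map (coord p) = p := by
  rw [coord, Spec.map_comp, ← Category.assoc, ← Scheme.toSpecΓ_naturality, Category.assoc, toSpecΓ_SpecMap_ΓSpecIso_inv,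
    Category.comp_id]

theorem lift_of_not_bad {P : Scheme.{u}} [IsAffine P] (p : P ⟶ Spec V) (h : ¬ BadHom (coord p).hom) :
    ∃ (W : CommRingCat.{u}) (_ : IsDomain W) (_ : ValuationRing W) (φ : V ⟶ W),
      HTop.IsExtVal V W φ ∧ ∃ g : Spec W ⟶ P, g ≫ p = Spec.map φ := by
  obtain ⟨q, m, hq, hm, hle, hq0, hmm⟩ := exists_primes_of_not_bad _ h
  let a : ↥(Spec Γ(P, ⊤)) := ⟨q, hq⟩
  let b : ↥(Spec Γ(P, ⊤)) := ⟨m, hm⟩
  obtain ⟨W, iW, iW', φ, hφ, g, hg, -⟩ := exists_ext_lift (Spec.map (coord p))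
    ((PrimeSpectrum.le_iff_specializes a b).1 hle) (PrimeSpectrum.ext hq0) (PrimeSpectrum.ext hmm)
  refine ⟨W, iW, iW', φ, hφ, g ≫ inv P.toSpecΓ, ?_⟩
  conv_lhs => rw [← toSpecΓ_coord p]
  rw [Category.assoc, IsIso.inv_hom_id_assoc, hg]

theorem not_bad_of_lift {P : Scheme.{u}} (p : P ⟶ Spec V) {W : CommRingCat.{u}} [IsDomain W] [ValuationRing W]
    {φ : V ⟶ W} (hφ : HTop.IsExtVal V W φ) (g : Spec W ⟶ P) (hg : g ≫ p = Spec.map φ) :
    ¬ BadHom (coord p).hom := by
  have he : Spec.map (g.appTop ≫ (Scheme.ΓSpecIso W).hom) ≫ Spec.map (coord p) = Spec.map φ := by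
    rw [← hg]
    conv_rhs => rw [← toSpecΓ_coord p]
    rw [← Category.assoc g, Spec.map_comp, Scheme.toSpecΓ_naturality]
    simp
  have hc : coord p ≫ g.appTop ≫ (Scheme.ΓSpecIso W).hom = φ := Spec.map_injective (by rw [Spec.map_comp, he])
  have hker : RingHom.ker φ.hom = ⊥ := (RingHom.injective_iff_ker_eq_bot _).1 hφ.1
  have hloc : (maximalIdeal W).comap φ.hom = maximalIdeal V := by
    haveI := hφ.2
    exact IsLocalRing.maximalIdeal_comap φ.hom
  let ψ := (g.appTop ≫ (Scheme.ΓSpecIso W).hom).hom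
  refine not_bad_of_primes _ (q := (⊥ : Ideal W).comap ψ) (p := (maximalIdeal W).comap ψ)
    inferInstance inferInstance (Ideal.comap_mono bot_le) ?_ ?_
  · rw [Ideal.comap_comap, ← RingHom.ker_eq_comap_bot, ← CommRingCat.hom_comp, hc, hker]
  · rw [Ideal.comap_comap, ← CommRingCat.hom_comp, hc, hloc]

variable {Y : Scheme.{u}} [IsAffine Y]

theorem bad_stage {T : Scheme.{u}} [IsAffine T] {I : Type u} [SmallCategory I] [IsCofiltered I]
    (E : I ⥤ Over (Spec V)) [∀ i, IsAffine (E.obj i).left] (s : Cone E)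
    (hs : IsLimit ((Over.forget (Spec V)).mapCone s)) (h : BadHom (coord s.pt.hom).hom) :
    ∃ i, BadHom (coord (E.obj i).hom).hom := by
  let D := E ⋙ Over.forget (Spec V)
  haveI hD : ∀ i, IsAffine (D.obj i) := fun i => inferInstanceAs (IsAffine (E.obj i).left)
  haveI : ∀ {i j} (f : i ⟶ j), IsAffineHom (D.map f) := fun {i j} f => inferInstance
  have hπ : ∀ i, coord s.pt.hom = coord (E.obj i).hom ≫ (s.π.app i).left.appTop := fun i =>
    (congrArg coord (Over.w (s.π.app i))).symm.trans (coord_comp _ _)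
  have hw : ∀ {i j} (f : j ⟶ i) (y : Γ((E.obj i).left, ⊤)),
      (s.π.app j).left.appTop ((E.map f).left.appTop y) = (s.π.app i).left.appTop y := fun {i j} f y => by
    have e : (s.π.app j).left ≫ (E.map f).left = (s.π.app i).left := congrArg CommaMorphism.left (s.w f)
    have e' := congrArg (fun k : s.pt.left ⟶ (E.obj i).left => k.appTop.hom y) e
    exact e'
  have hmap : ∀ {i j} (f : j ⟶ i), coord (E.obj j).hom = coord (E.obj i).hom ≫ (E.map f).left.appTop := fun {i j} f => by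
    rw [← coord_comp]
    exact congrArg coord (Over.w (E.map f)).symm
  have hpush : ∀ {i j} (f : j ⟶ i) {y : Γ((E.obj i).left, ⊤)}, y ∈ (maximalIdeal V).map (coord (E.obj i).hom).hom →
      (E.map f).left.appTop y ∈ (maximalIdeal V).map (coord (E.obj j).hom).hom := fun {i j} f y hy => by
    rw [hmap f, CommRingCat.hom_comp, ← Ideal.map_map]
    exact Ideal.mem_map_of_mem _ hy
  have hlift : ∀ x ∈ (maximalIdeal V).map (coord s.pt.hom).hom, ∃ (i : I) (y : Γ((E.obj i).left, ⊤)),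
      y ∈ (maximalIdeal V).map (coord (E.obj i).hom).hom ∧ (s.π.app i).left.appTop y = x := by
    intro x hx
    induction hx using Submodule.span_induction with
    | mem z hz =>
      obtain ⟨m, hm, rfl⟩ := hz
      obtain ⟨i⟩ := IsCofiltered.nonempty (C := I)
      exact ⟨i, coord (E.obj i).hom m, Ideal.mem_map_of_mem _ hm, by rw [hπ i]; rfl⟩
    | zero =>
      obtain ⟨i⟩ := IsCofiltered.nonempty (C := I)
      exact ⟨i, 0, zero_mem _, map_zero _⟩
    | add a b _ _ ha hb =>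
      obtain ⟨i, y, hy, rfl⟩ := ha
      obtain ⟨j, z, hz, rfl⟩ := hb
      refine ⟨IsCofiltered.min i j, (E.map (IsCofiltered.minToLeft i j)).left.appTop y +
        (E.map (IsCofiltered.minToRight i j)).left.appTop z, add_mem (hpush _ hy) (hpush _ hz), ?_⟩
      rw [map_add, hw, hw]
    | smul a b _ hb =>
      obtain ⟨i, y, hy, rfl⟩ := hb
      obtain ⟨j, r, hr⟩ := exists_appTop_π_eq_of_isAffine_of_isLimit D _ hs a
      refine ⟨IsCofiltered.min i j, (E.map (IsCofiltered.minToRight i j)).left.appTop r *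
        (E.map (IsCofiltered.minToLeft i j)).left.appTop y, Ideal.mul_mem_left _ _ (hpush _ hy), ?_⟩
      rw [smul_eq_mul, map_mul, ← hr]
      exact congrArg₂ (· * ·) (hw _ r) (hw _ y)
  obtain ⟨c, hc, x, hx, he⟩ := h
  obtain ⟨i, y, hy, rfl⟩ := hlift x hx
  obtain ⟨j, f, hj⟩ := exists_appTop_map_eq_zero_of_isAffine_of_isLimit D _ hs i
    (coord (E.obj i).hom c * (1 - y) : Γ((E.obj i).left, ⊤)) (by
      show (s.π.app i).left.appTop (coord (E.obj i).hom c * (1 - y)) = 0
      rw [map_mul, map_sub, map_one]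
      rw [hπ i] at he
      exact he)
  refine ⟨j, c, hc, (E.map f).left.appTop y, hpush f hy, ?_⟩
  rw [hmap f]
  have hj' : (E.map f).left.appTop (coord (E.obj i).hom c * (1 - y)) = 0 := hj
  rw [map_mul, map_sub, map_one] at hj'
  exact hj'

theorem isStandardV_of_limit {I : Type u} [SmallCategory I] [IsCofiltered I] (D : I ⥤ Over Y)
    [∀ i, IsAffine (D.obj i).left] (c : Cone D) (hc : IsLimit ((Over.forget Y).mapCone c)) :
    HTop.IsStandardV (PreZeroHypercover.singleton.{w} c.pt.hom) ↔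
      ∀ i, HTop.IsStandardV (PreZeroHypercover.singleton.{w} (D.obj i).hom) := by
  haveI : ∀ i, IsAffine ((D ⋙ Over.forget Y).obj i) := fun i => inferInstanceAs (IsAffine (D.obj i).left)
  haveI : IsAffine c.pt.left := Scheme.isAffine_of_isLimit _ hc
  constructor
  · intro h i
    refine ⟨‹_›, inferInstanceAs (Finite PUnit), fun _ => inferInstanceAs (IsAffine (D.obj i).left), ?_⟩
    intro R _ _ g
    obtain ⟨W, iW, iW', φ, hφ, _j, k, hk⟩ := h.lift R g
    obtain ⟨k, hk⟩ : ∃ k : Spec W ⟶ c.pt.left, k ≫ c.pt.hom = Spec.map φ ≫ g := ⟨k, hk⟩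
    refine ⟨W, iW, iW', φ, hφ, PUnit.unit, k ≫ (c.π.app i).left, ?_⟩
    show (k ≫ (c.π.app i).left) ≫ (D.obj i).hom = _
    exact (Category.assoc _ _ _).trans ((congrArg (k ≫ ·) (Over.w (c.π.app i))).trans hk)
  · intro h
    refine ⟨‹_›, inferInstanceAs (Finite PUnit), fun _ => inferInstanceAs (IsAffine c.pt.left), ?_⟩
    intro R _ _ g
    let E := D ⋙ Over.pullback g
    haveI : ∀ i, IsAffine (E.obj i).left := fun i =>
      inferInstanceAs (IsAffine (pullback (D.obj i).hom g))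
    haveI : IsConnected I := IsCofiltered.isConnected I
    let s : Cone E := (Over.pullback g).mapCone c
    have hsl : IsLimit ((Over.forget (Spec R)).mapCone s) :=
      isLimitOfPreserves (Over.forget (Spec R)) (isLimitOfPreserves (Over.pullback g)
        (isLimitOfReflects (Over.forget Y) hc))
    haveI : IsAffine s.pt.left := inferInstanceAs (IsAffine (pullback c.pt.hom g))
    have hnb : ¬ BadHom (coord s.pt.hom).hom := by
      intro hb
      obtain ⟨i, hi⟩ := bad_stage (T := Spec R) E s hsl hb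
      obtain ⟨W, iW, iW', φ, hφ, _j, k, hk⟩ := (h i).lift R g
      obtain ⟨k, hk⟩ : ∃ k : Spec W ⟶ (D.obj i).left, k ≫ (D.obj i).hom = Spec.map φ ≫ g := ⟨k, hk⟩
      exact not_bad_of_lift (E.obj i).hom hφ (pullback.lift k (Spec.map φ) hk) (pullback.lift_snd _ _ _) hi
    obtain ⟨W, iW, iW', φ, hφ, k, hk⟩ := lift_of_not_bad s.pt.hom hnb
    obtain ⟨k, hk⟩ : ∃ k : Spec W ⟶ pullback c.pt.hom g, k ≫ pullback.snd c.pt.hom g = Spec.map φ := ⟨k, hk⟩
    refine ⟨W, iW, iW', φ, hφ, PUnit.unit, k ≫ pullback.fst c.pt.hom g, ?_⟩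
    show (k ≫ pullback.fst _ _) ≫ c.pt.hom = _
    rw [Category.assoc, pullback.condition, ← Category.assoc, hk]

end Groth.L28.VTop
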