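import Groth.Agent.L28.VTop.OverSheaf
import Groth.Agent.L28.VTop.Sheaf
import Groth.Agent.L28.VTop.LimitV
import Groth.Agent.L19.Approx.FactorSystem
import Groth.Agent.L19.Limit.Separated
import Mathlib.CategoryTheory.Limits.Types.Filtered

/-!
# Limit preserving h sheaves are V sheaves
-/

universe w u

open CategoryTheory CategoryTheory.Limits AlgebraicGeometry Opposite

namespace Groth.L28.VTop

set_option backward.isDefEq.respectTransparency.types false
set_option linter.style.haveILetI false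

variable {S : Scheme.{u}} {F : (Over S)ᵒᵖ ⥤ Type w}

lemma isSheafFor_singleton_hCover (hF : HTop.IsHSheafOver S F) {U V : Over S} (f : V ⟶ U)
    [LocallyOfFinitePresentation f.left] (hf : HTop.IsStandardV (PreZeroHypercover.singleton.{0} f.left)) :
    Presieve.IsSheafFor F (Presieve.singleton f) := by
  refine hF _ ?_
  rw [Presieve.map_singleton]
  have h := (HTop.presieve₀_mem_hPrecoverage_iff (PreZeroHypercover.singleton.{0} f.left)).2
    ⟨fun _ => (inferInstance : LocallyOfFinitePresentation f.left), isVCover_of_isStandardV hf⟩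
  rwa [PreZeroHypercover.presieve₀_singleton] at h

theorem exists_stage_eq (h2 : ∀ (I : Type u) [SmallCategory I] [IsCofiltered I] (D : I ⥤ Over S),
      (∀ i, IsAffine (D.obj i).left) → ∀ (c : Cone D), IsLimit ((Over.forget S).mapCone c) →
        Nonempty (IsColimit (F.mapCocone c.op)))
    {I : Type u} [SmallCategory I] [IsCofiltered I] (D : I ⥤ Over S) [∀ i, IsAffine (D.obj i).left]
    (c : Cone D) (hc : IsLimit ((Over.forget S).mapCone c)) {U : Over S} [IsAffine U.left]
    (f : c.pt ⟶ U) (i : I) (p : D.obj i ⟶ U) (hp : c.π.app i ≫ p = f) (y : F.obj (op (D.obj i)))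
    (hy : ∀ {Z : Over S} (a b : Z ⟶ c.pt), a ≫ f = b ≫ f →
      F.map a.op (F.map (c.π.app i).op y) = F.map b.op (F.map (c.π.app i).op y)) :
    ∃ (j : I) (φ : j ⟶ i), ∀ (Z : Over S) (a b : Z ⟶ D.obj j), a ≫ D.map φ ≫ p = b ≫ D.map φ ≫ p →
      F.map a.op (F.map (D.map φ).op y) = F.map b.op (F.map (D.map φ).op y) := by
  let DS : I ⥤ Scheme.{u} := D ⋙ Over.forget S
  haveI hDS : ∀ i, IsAffine (DS.obj i) := fun i => inferInstanceAs (IsAffine (D.obj i).left)
  haveI : ∀ {i j} (φ : i ⟶ j), IsAffineHom (DS.map φ) := fun φ => inferInstance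
  let cS := (Over.forget S).mapCone c
  let a₀ : DS.obj i ⟶ U.left := p.left
  let sq := Groth.L19.Limit.sqDiagram DS a₀
  let sc := Groth.L19.Limit.sqProdCone DS cS a₀
  let st : ∀ j : Over i, sq.obj j ⟶ S := fun j => pullback.fst _ _ ≫ (D.obj j.left).hom
  have hst : ∀ {j k : Over i} (m : j ⟶ k), sq.map m ≫ st k = st j := fun {j k} m => by
    refine (pullback.lift_fst_assoc _ _ _ _).trans ?_
    exact (Category.assoc _ _ _).trans (congrArg (pullback.fst _ _ ≫ ·) (Over.w (D.map m.left)))
  let E : Over i ⥤ Over S :=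
    { obj := fun j => Over.mk (st j)
      map := fun {j k} m => Over.homMk (sq.map m) (hst m)
      map_id := fun j => by ext; exact sq.map_id j
      map_comp := fun m n => by ext; exact sq.map_comp m n }
  have hEaff : ∀ j, IsAffine (E.obj j).left := fun j =>
    inferInstanceAs (IsAffine (pullback (DS.map j.hom ≫ a₀) (DS.map j.hom ≫ a₀)))
  let st₀ : sc.pt ⟶ S := pullback.fst _ _ ≫ c.pt.hom
  have hst₀ : ∀ j, sc.π.app j ≫ st j = st₀ := fun j => by
    refine (pullback.lift_fst_assoc _ _ _ _).trans ?_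
    exact (Category.assoc _ _ _).trans (congrArg (pullback.fst _ _ ≫ ·) (Over.w (c.π.app j.left)))
  let cE : Cone E :=
    { pt := Over.mk st₀
      π :=
        { app := fun j => Over.homMk (sc.π.app j) (hst₀ j)
          naturality := fun j k m => by ext; exact sc.π.naturality m } }
  obtain ⟨hE⟩ := h2 (Over i) E hEaff cE (Groth.L19.Limit.isLimitSqProdCone a₀ hc)
  have hU : ∀ j : Over i, (DS.map j.hom ≫ a₀) ≫ U.hom = (D.obj j.left).hom := fun j =>
    Over.w (D.map j.hom ≫ p)
  have hU₀ : (cS.π.app i ≫ a₀) ≫ U.hom = c.pt.hom := Over.w (c.π.app i ≫ p)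
  let q₁ : ∀ j : Over i, E.obj j ⟶ D.obj j.left := fun j =>
    Over.homMk (pullback.fst (DS.map j.hom ≫ a₀) (DS.map j.hom ≫ a₀)) rfl
  let q₂ : ∀ j : Over i, E.obj j ⟶ D.obj j.left := fun j =>
    Over.homMk (pullback.snd (DS.map j.hom ≫ a₀) (DS.map j.hom ≫ a₀))
      ((congrArg (pullback.snd _ _ ≫ ·) (hU j)).symm.trans
        ((Category.assoc _ _ _).symm.trans ((congrArg (· ≫ U.hom) pullback.condition.symm).trans
          ((Category.assoc _ _ _).trans (congrArg (pullback.fst _ _ ≫ ·) (hU j))))))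
  let r₁ : cE.pt ⟶ c.pt := Over.homMk (pullback.fst (cS.π.app i ≫ a₀) (cS.π.app i ≫ a₀)) rfl
  let r₂ : cE.pt ⟶ c.pt := Over.homMk (pullback.snd (cS.π.app i ≫ a₀) (cS.π.app i ≫ a₀))
      ((congrArg (pullback.snd _ _ ≫ ·) hU₀).symm.trans
        ((Category.assoc _ _ _).symm.trans ((congrArg (· ≫ U.hom) pullback.condition.symm).trans
          ((Category.assoc _ _ _).trans (congrArg (pullback.fst _ _ ≫ ·) hU₀)))))
  have hr : r₁ ≫ f = r₂ ≫ f := by
    rw [← hp]
    ext
    exact pullback.condition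
  let j₀ : Over i := Over.mk (𝟙 i)
  have h₁ : cE.π.app j₀ ≫ q₁ j₀ = r₁ ≫ c.π.app i := by
    ext
    exact pullback.lift_fst _ _ _
  have h₂ : cE.π.app j₀ ≫ q₂ j₀ = r₂ ≫ c.π.app i := by
    ext
    exact pullback.lift_snd _ _ _
  have heq : F.map (cE.π.app j₀).op (F.map (q₁ j₀).op y) = F.map (cE.π.app j₀).op (F.map (q₂ j₀).op y) := by
    refine (Functor.map_comp_apply F _ _ y).symm.trans ?_
    refine Eq.trans ?_ (Functor.map_comp_apply F _ _ y)
    rw [← op_comp, ← op_comp, h₁, h₂, op_comp, op_comp, Functor.map_comp_apply, Functor.map_comp_apply]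
    exact hy r₁ r₂ hr
  obtain ⟨⟨k⟩, m, hm⟩ := (Types.FilteredColimit.isColimit_eq_iff' hE (i := op j₀) _ _).1 heq
  have hm' : F.map (E.map m.unop).op (F.map (q₁ j₀).op y) = F.map (E.map m.unop).op (F.map (q₂ j₀).op y) := hm
  have hk : m.unop.left = k.hom := by
    have := Over.w m.unop
    simpa [j₀] using this
  have hk₁ : E.map m.unop ≫ q₁ j₀ = q₁ k ≫ D.map k.hom := by
    ext
    exact (pullback.lift_fst _ _ _).trans (by rw [hk]; rfl)
  have hk₂ : E.map m.unop ≫ q₂ j₀ = q₂ k ≫ D.map k.hom := by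
    ext
    exact (pullback.lift_snd _ _ _).trans (by rw [hk]; rfl)
  rw [← Functor.map_comp_apply, ← Functor.map_comp_apply, ← op_comp, ← op_comp, hk₁, hk₂, op_comp, op_comp,
    Functor.map_comp_apply, Functor.map_comp_apply] at hm'
  refine ⟨k.left, k.hom, fun Z a b hab => ?_⟩
  have hab' : a.left ≫ DS.map k.hom ≫ a₀ = b.left ≫ DS.map k.hom ≫ a₀ := congrArg CommaMorphism.left hab
  let l : Z ⟶ E.obj k := Over.homMk (pullback.lift a.left b.left hab')
    ((pullback.lift_fst_assoc _ _ hab' (D.obj k.left).hom).trans (Over.w a))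
  have la : a = l ≫ q₁ k := by ext; exact (pullback.lift_fst _ _ hab').symm
  have lb : b = l ≫ q₂ k := by ext; exact (pullback.lift_snd _ _ hab').symm
  rw [la, lb, op_comp, op_comp, Functor.map_comp_apply, Functor.map_comp_apply, hm']

theorem isSheafFor_singleton_of_cone (h2 : ∀ (I : Type u) [SmallCategory I] [IsCofiltered I] (D : I ⥤ Over S),
      (∀ i, IsAffine (D.obj i).left) → ∀ (c : Cone D), IsLimit ((Over.forget S).mapCone c) →
        Nonempty (IsColimit (F.mapCocone c.op)))
    {I : Type u} [SmallCategory I] [IsCofiltered I] (D : I ⥤ Over S) [∀ i, IsAffine (D.obj i).left]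
    (c : Cone D) (hc : IsLimit ((Over.forget S).mapCone c)) {U : Over S} [IsAffine U.left] (f : c.pt ⟶ U)
    (p : ∀ i, D.obj i ⟶ U) (hπ : ∀ i, c.π.app i ≫ p i = f)
    (hp : ∀ {i j} (φ : j ⟶ i), D.map φ ≫ p i = p j)
    (hsheaf : ∀ i, Presieve.IsSheafFor F (Presieve.singleton (p i))) :
    Presieve.IsSheafFor F (Presieve.singleton f) := by
  obtain ⟨hcol⟩ := h2 I D (fun i => inferInstance) c hc
  rw [Presieve.isSheafFor_singleton]
  intro x hx
  obtain ⟨⟨i⟩, y, hy⟩ := Types.jointly_surjective_of_isColimit hcol x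
  have hy' : F.map (c.π.app i).op y = x := hy
  obtain ⟨j, φ, hj⟩ := exists_stage_eq h2 D c hc f i (p i) (hπ i) y
    (fun {Z} a b h => by rw [hy']; exact hx a b h)
  have hj' : ∀ {Z : Over S} (a b : Z ⟶ D.obj j), a ≫ p j = b ≫ p j →
      F.map a.op (F.map (D.map φ).op y) = F.map b.op (F.map (D.map φ).op y) := fun {Z} a b h =>
    hj Z a b (by rwa [hp φ])
  obtain ⟨t, ht, -⟩ := (Presieve.isSheafFor_singleton.1 (hsheaf j)) _ hj'
  have htx : F.map f.op t = x := by
    rw [← hπ j, op_comp, Functor.map_comp_apply, ht, ← Functor.map_comp_apply, ← op_comp, c.w φ, hy']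
  refine ⟨t, htx, fun t₂ ht₂ => ?_⟩
  have hcolim : F.map (c.π.app j).op (F.map (p j).op t) = F.map (c.π.app j).op (F.map (p j).op t₂) := by
    rw [← Functor.map_comp_apply, ← Functor.map_comp_apply, ← op_comp, hπ j, htx]
    exact ht₂.symm
  obtain ⟨⟨k⟩, m, hm⟩ := (Types.FilteredColimit.isColimit_eq_iff' hcol (i := op j) _ _).1 hcolim
  have hm' : F.map (D.map m.unop).op (F.map (p j).op t) = F.map (D.map m.unop).op (F.map (p j).op t₂) := hm
  rw [← Functor.map_comp_apply, ← Functor.map_comp_apply, ← op_comp, hp] at hm'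
  exact (hsheaf k).isSeparatedFor.ext fun W g hg => by obtain ⟨⟩ := hg; exact hm'.symm

theorem isSheafFor_singleton_standardV (h1 : HTop.IsHSheafOver S F)
    (h2 : ∀ (I : Type u) [SmallCategory I] [IsCofiltered I] (D : I ⥤ Over S),
      (∀ i, IsAffine (D.obj i).left) → ∀ (c : Cone D), IsLimit ((Over.forget S).mapCone c) →
        Nonempty (IsColimit (F.mapCocone c.op)))
    {U V : Over S} (f : V ⟶ U) (hf : HTop.IsStandardV (PreZeroHypercover.singleton.{0} f.left)) :
    Presieve.IsSheafFor F (Presieve.singleton f) := by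
  haveI : IsAffine U.left := hf.isAffine
  haveI : IsAffine V.left := hf.isAffine_obj PUnit.unit
  let sys := Groth.L19.Approx.system f.left (⊤ : MorphismProperty Scheme.{u})
  let I := (Groth.L19.Approx.Idx f.left (⊤ : MorphismProperty Scheme.{u}))ᵒᵖ
  let c := Groth.L19.Approx.cone f.left (⊤ : MorphismProperty Scheme.{u})
  haveI hI : IsCofiltered I := Groth.L19.Approx.isCofiltered_idx f.left
  obtain ⟨hc⟩ := Groth.L19.Approx.nonempty_isLimit_forget_cone f.left
  haveI haff : ∀ i : I, IsAffine (sys.obj i).left := fun i =>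
    haveI : IsAffineHom (sys.obj i).hom :=
      Groth.L19.Approx.isAffineHom_system_hom f.left (⊤ : MorphismProperty Scheme.{u}) i
    isAffine_of_isAffineHom (sys.obj i).hom
  have hV : HTop.IsStandardV (PreZeroHypercover.singleton.{0} c.pt.hom) := hf
  have hst : ∀ i, HTop.IsStandardV (PreZeroHypercover.singleton.{0} (sys.obj i).hom) :=
    (isStandardV_of_limit sys c hc).1 hV
  let D : I ⥤ Over S := sys ⋙ Over.map U.hom
  haveI : ∀ i, IsAffine (D.obj i).left := fun i => haff i
  let σ : ∀ i : I, V.left ⟶ (sys.obj i).left := fun i => (c.π.app i).left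
  have hσ : ∀ i, σ i ≫ (sys.obj i).hom = f.left := fun i => Over.w (c.π.app i)
  let π : ∀ i : I, V ⟶ D.obj i := fun i => Over.homMk (σ i)
    (((Category.assoc _ _ _).symm.trans (congrArg (· ≫ U.hom) (hσ i))).trans (Over.w f))
  let cV : Cone D :=
    { pt := V
      π :=
        { app := π
          naturality := fun i j φ => by
            ext
            show 𝟙 V.left ≫ σ j = σ i ≫ (sys.map φ).left
            rw [Category.id_comp]
            exact (congrArg CommaMorphism.left (c.w φ)).symm } }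
  have hcV : IsLimit ((Over.forget S).mapCone cV) :=
    IsLimit.ofIsoLimit hc (Cone.ext (Iso.refl _) fun i => (Category.id_comp (σ i)).symm)
  refine isSheafFor_singleton_of_cone h2 D cV hcV f (fun i => Over.homMk (sys.obj i).hom rfl)
    (fun i => by ext; exact hσ i) (fun φ => by ext; exact Over.w (sys.map φ)) fun i => ?_
  haveI : LocallyOfFinitePresentation (Over.homMk (sys.obj i).hom rfl : D.obj i ⟶ U).left :=
    Groth.L19.Approx.lfp_system_hom f.left (⊤ : MorphismProperty Scheme.{u}) i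
  exact isSheafFor_singleton_hCover h1 (Over.homMk (sys.obj i).hom rfl : D.obj i ⟶ U) (hst i)

theorem isVSheafOver_of_limit (h1 : HTop.IsHSheafOver S F)
    (h2 : ∀ (I : Type u) [SmallCategory I] [IsCofiltered I] (D : I ⥤ Over S),
      (∀ i, IsAffine (D.obj i).left) → ∀ (c : Cone D), IsLimit ((Over.forget S).mapCone c) →
        Nonempty (IsColimit (F.mapCocone c.op))) :
    HTop.IsVSheafOver S F :=
  isVSheafOver_of_singleton h1 fun _ _ f hf => isSheafFor_singleton_standardV h1 h2 f hf

end Groth.L28.VTop
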