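import Groth.Agent.L28.VTop.Cover
import Mathlib.AlgebraicGeometry.Limits
import Mathlib.CategoryTheory.Sites.Canonical

/-!
# Sheaf conditions for h and V coverings of schemes over a base
-/

universe w w' v u

open CategoryTheory CategoryTheory.Limits AlgebraicGeometry Opposite

namespace Groth.L28.VTop

variable {S : Scheme.{u}}

/-- A family over the underlying scheme as a presieve over `S`. -/
def liftArrows (T : Over S) (E : PreZeroHypercover.{w'} T.left) : Presieve T :=
  Presieve.ofArrows (fun i => Over.mk (E.f i ≫ T.hom)) fun i => Over.homMk (E.f i) rfl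

lemma liftArrows_map (T : Over S) (E : PreZeroHypercover.{w'} T.left) :
    (liftArrows T E).map (Over.forget S) = E.presieve₀ :=
  Presieve.map_ofArrows _

lemma liftArrows_le {T : Over S} {R : Presieve T} {E : PreZeroHypercover.{w'} T.left}
    (h : E.presieve₀ ≤ R.map (Over.forget S)) : Sieve.generate (liftArrows T E) ≤ Sieve.generate R := by
  rw [Sieve.generate_le_iff]
  rintro Y k ⟨i⟩
  obtain ⟨Z, hZ, g, hg, e⟩ := Presieve.map_iff.1 (h _ _ (Presieve.ofArrows.mk i))
  have hZ' : Z.left = E.X i := hZ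
  have e' : g.left = eqToHom hZ' ≫ E.f i := e
  refine ⟨Z, Over.homMk (eqToHom hZ'.symm) ?_, g, hg, ?_⟩
  · show eqToHom hZ'.symm ≫ Z.hom = E.f i ≫ T.hom
    rw [← Over.w g, e', Category.assoc, eqToHom_trans_assoc, eqToHom_refl, Category.id_comp]
  · ext
    show eqToHom hZ'.symm ≫ g.left = E.f i
    rw [e', eqToHom_trans_assoc, eqToHom_refl, Category.id_comp]

lemma liftArrows_pullback {T Q : Over S} (E : PreZeroHypercover.{w'} T.left) (g : Q ⟶ T) :
    (Sieve.generate (liftArrows T E)).pullback g = Sieve.generate (liftArrows Q (E.pullback₁ g.left)) := by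
  let A : E.I₀ → Over S := fun i => Over.mk (pullback.fst g.left (E.f i) ≫ Q.hom)
  let a : ∀ i, A i ⟶ Q := fun i => Over.homMk (pullback.fst g.left (E.f i)) rfl
  let B : E.I₀ → Over S := fun i => Over.mk (E.f i ≫ T.hom)
  let b : ∀ i, B i ⟶ T := fun i => Over.homMk (E.f i) rfl
  have hA : liftArrows Q (E.pullback₁ g.left) = Presieve.ofArrows A a := rfl
  have hB : liftArrows T E = Presieve.ofArrows B b := rfl
  rw [hA, hB]
  ext Z k
  constructor
  · rintro ⟨_, m, _, ⟨i⟩, hm⟩
    have hm' : m.left ≫ E.f i = k.left ≫ g.left := congrArg CommaMorphism.left hm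
    refine ⟨A i, Over.homMk (pullback.lift k.left m.left hm'.symm) ?_, a i, ⟨i⟩, ?_⟩
    · exact (pullback.lift_fst_assoc _ _ hm'.symm Q.hom).trans (Over.w k)
    · ext
      exact pullback.lift_fst _ _ _
  · rintro ⟨_, m, _, ⟨i⟩, rfl⟩
    have hw : m.left ≫ pullback.fst g.left (E.f i) ≫ Q.hom = Z.hom := Over.w m
    refine ⟨B i, Over.homMk (m.left ≫ pullback.snd g.left (E.f i)) ?_, b i, ⟨i⟩, ?_⟩
    · calc (m.left ≫ pullback.snd g.left (E.f i)) ≫ E.f i ≫ T.hom
          = m.left ≫ (pullback.snd g.left (E.f i) ≫ E.f i) ≫ T.hom := by simp only [Category.assoc]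
        _ = m.left ≫ pullback.fst g.left (E.f i) ≫ g.left ≫ T.hom := by
          rw [← pullback.condition, Category.assoc]
        _ = Z.hom := by rw [Over.w g, hw]
    · ext
      exact (Category.assoc _ _ _).trans
        ((congrArg (m.left ≫ ·) pullback.condition.symm).trans (Category.assoc _ _ _).symm)

variable {F : (Over S)ᵒᵖ ⥤ Type v}

lemma isSheafFor_of_mem_over {T : Over S} {R : Presieve T}
    (h : Sieve.generate R ∈ Sheaf.finestTopologySingle F T) : Presieve.IsSheafFor F R := by
  rw [Presieve.isSheafFor_iff_generate]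
  simpa using h T (𝟙 T)

/-- The h coverings are covering as soon as `F` has the sheaf property for them. -/
lemma hCover_mem (hF : HTop.IsHSheafOver S F) {T : Over S} {E : PreZeroHypercover.{w'} T.left}
    (hE : HTop.IsHCover E) : Sieve.generate (liftArrows T E) ∈ Sheaf.finestTopologySingle F T := by
  intro Y g
  rw [liftArrows_pullback, ← Presieve.isSheafFor_iff_generate]
  refine hF _ ?_
  rw [liftArrows_map]
  exact (HTop.presieve₀_mem_hPrecoverage_iff (E.pullback₁ g.left)).2 ⟨fun (i : E.I₀) => haveI := hE.1 i; inferInstanceAs (LocallyOfFinitePresentation (pullback.fst g.left (E.f i))),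
    isVCover_pullback₁ g.left hE.2⟩

set_option backward.isDefEq.respectTransparency.types false in
lemma openCover_mem_over (hF : HTop.IsHSheafOver S F) {T : Over S} (𝒰 : T.left.OpenCover) :
    Sieve.generate (liftArrows T 𝒰.toPreZeroHypercover) ∈ Sheaf.finestTopologySingle F T :=
  hCover_mem hF ⟨fun i => inferInstanceAs (LocallyOfFinitePresentation (𝒰.f i)),
    isVCover_of_fpqc 𝒰.toPreZeroHypercover fun i => inferInstance⟩

/-- A sieve is covering as soon as its pullbacks to affines satisfy the sheaf condition. -/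
theorem mem_of_affine_over (hF : HTop.IsHSheafOver S F) {T : Over S} (R : Sieve T)
    (h : ∀ (U : Over S) [IsAffine U.left] (g : U ⟶ T), Presieve.IsSheafFor F (R.pullback g).arrows) :
    R ∈ Sheaf.finestTopologySingle F T := by
  let X : ∀ (Z : Over S), Z.left.affineCover.I₀ → Over S := fun Z i => Over.mk (Z.left.affineCover.f i ≫ Z.hom)
  let c : ∀ (Z : Over S) (i : Z.left.affineCover.I₀), X Z i ⟶ Z := fun Z i =>
    Over.homMk (Z.left.affineCover.f i) rfl
  have haffX : ∀ Z i, IsAffine (X Z i).left := fun Z i => inferInstanceAs (IsAffine (Z.left.affineCover.X i))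
  have hmem : ∀ Z : Over S, Sieve.generate (Presieve.ofArrows (X Z) (c Z)) ∈ Sheaf.finestTopologySingle F Z :=
    fun Z => openCover_mem_over hF Z.left.affineCover
  have hcov : ∀ Z : Over S, Presieve.IsSheafFor F (Presieve.ofArrows (X Z) (c Z)) := fun Z =>
    isSheafFor_of_mem_over (hmem Z)
  have hsep : ∀ (Z : Over S) (g : Z ⟶ T), Presieve.IsSeparatedFor F (R.pullback g).arrows := by
    intro Z g x t₁ t₂ h₁ h₂
    refine (hcov Z).isSeparatedFor.ext fun Y f hf => ?_
    obtain ⟨i⟩ := hf
    haveI := haffX Z i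
    refine (h _ (c Z i ≫ g)).isSeparatedFor.ext fun W k hk => ?_
    have hk' : (R.pullback g).arrows (k ≫ c Z i) := by simpa using hk
    rw [← Functor.map_comp_apply, ← Functor.map_comp_apply, ← op_comp]
    exact (h₁ _ hk').trans (h₂ _ hk').symm
  intro Z g s hs
  have haff : ∀ i, ∃ t : F.obj (op (X Z i)), ∀ W (k : W ⟶ X Z i)
      (hk : (R.pullback g).arrows (k ≫ c Z i)), F.map k.op t = s _ hk := by
    intro i
    haveI := haffX Z i
    let s' : Presieve.FamilyOfElements F (R.pullback (c Z i ≫ g)).arrows :=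
      fun W k hk => s (k ≫ c Z i) (by simpa using hk)
    have hs' : s'.Compatible := fun _ _ _ g₁ g₂ f₁ f₂ h₁ h₂ e => hs g₁ g₂ _ _ (by rw [← Category.assoc, e, Category.assoc])
    obtain ⟨t, ht, -⟩ := h _ (c Z i ≫ g) s' hs'
    exact ⟨t, fun W k hk => ht k (by simpa using hk)⟩
  choose t ht using haff
  have hcomp : Presieve.Arrows.Compatible F (c Z) t := by
    intro i j W gi gj e
    refine (hsep W (gi ≫ c Z i ≫ g)).ext fun V k hk => ?_
    have hk' : (R.pullback g).arrows ((k ≫ gi) ≫ c Z i) := by simpa using hk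
    have hk'' : (R.pullback g).arrows ((k ≫ gj) ≫ c Z j) := by
      rw [Category.assoc, ← e, ← Category.assoc]; exact hk'
    rw [← Functor.map_comp_apply, ← Functor.map_comp_apply, ← op_comp, ← op_comp, ht i _ _ hk', ht j _ _ hk'']
    congr 1
    rw [Category.assoc, e, Category.assoc]
  obtain ⟨x, hx, -⟩ := (Presieve.isSheafFor_arrows_iff _ _).1 (hcov Z) t hcomp
  have hext : ∀ W (f : W ⟶ Z) (hf : (R.pullback g).arrows f), F.map f.op x = s f hf := by
    intro W f hf
    have hsW : Presieve.IsSeparatedFor F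
        ((Sieve.generate (Presieve.ofArrows (X Z) (c Z))).pullback f).arrows :=
      (hmem Z W f).isSeparatedFor
    refine hsW.ext fun V k hk => ?_
    obtain ⟨Y, m, _, ⟨i⟩, hm⟩ := hk
    rw [← Functor.map_comp_apply, ← op_comp, ← hm, op_comp, Functor.map_comp_apply, hx]
    have hm' : (R.pullback g).arrows (m ≫ c Z i) := by
      rw [hm]; exact (R.pullback g).downward_closed hf k
    rw [ht i _ m hm']
    have h2 := hs (𝟙 V) k hm' hf (by rw [Category.id_comp, hm])
    simpa using h2
  exact ⟨x, hext, fun y hy => (hsep Z g).ext fun W f hf => (hy f hf).trans (hext W f hf).symm⟩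

set_option backward.isDefEq.respectTransparency.types false in
/-- The standard V coverings are covering as soon as `F` has the sheaf property for the singleton ones. -/
theorem standardV_mem_over (hF : HTop.IsHSheafOver S F)
    (h : ∀ (U V : Over S) (f : V ⟶ U), HTop.IsStandardV (PreZeroHypercover.singleton.{0} f.left) →
      Presieve.IsSheafFor F (Presieve.singleton f))
    {T : Over S} {E : PreZeroHypercover.{0} T.left} (hE : HTop.IsStandardV E) :
    Sieve.generate (liftArrows T E) ∈ Sheaf.finestTopologySingle F T := by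
  haveI := hE.isAffine
  haveI := hE.finite_index
  haveI := hE.isAffine_obj
  let P : Over S := Over.mk (Sigma.desc E.f ≫ T.hom)
  let d : P ⟶ T := Over.homMk (Sigma.desc E.f) rfl
  refine (Sheaf.finestTopologySingle F).transitive (S := Sieve.generate (Presieve.singleton d)) ?_ _ ?_
  · refine mem_of_affine_over hF _ fun U _ g => ?_
    have hsq : IsPullback (pullback.fst g.left (Sigma.desc E.f)) (pullback.snd g.left (Sigma.desc E.f))
        g.left (Sigma.desc E.f) := IsPullback.of_hasPullback _ _
    let P' : Over S := Over.mk (pullback.fst g.left (Sigma.desc E.f) ≫ U.hom)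
    let d' : P' ⟶ U := Over.homMk (pullback.fst g.left (Sigma.desc E.f)) rfl
    have hV : HTop.IsStandardV (PreZeroHypercover.singleton.{0} d'.left) := by
      refine { isAffine := ‹_›, finite_index := inferInstanceAs (Finite PUnit), isAffine_obj := ?_, lift := ?_ }
      · intro _
        exact inferInstanceAs (IsAffine (pullback g.left (Sigma.desc E.f)))
      · intro V _ _ k
        obtain ⟨W, iW, iW', φ, hφ, i, g', hg'⟩ := hE.lift V (k ≫ g.left)
        refine ⟨W, iW, iW', φ, hφ, PUnit.unit, pullback.lift (Spec.map φ ≫ k) (g' ≫ Sigma.ι E.X i) ?_,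
          pullback.lift_fst _ _ _⟩
        rw [Category.assoc (f := g'), Sigma.ι_desc, hg', Category.assoc]
    have h1 : (Sieve.generate (Presieve.singleton d)).pullback g = Sieve.generate (Presieve.singleton d') := by
      ext Z k
      constructor
      · rintro ⟨_, m, _, ⟨⟩, hm⟩
        have hm' : m.left ≫ Sigma.desc E.f = k.left ≫ g.left := congrArg CommaMorphism.left hm
        refine ⟨P', Over.homMk (pullback.lift k.left m.left hm'.symm) ?_, d', ⟨⟩, ?_⟩
        · show pullback.lift _ _ _ ≫ pullback.fst _ _ ≫ U.hom = Z.hom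
          rw [pullback.lift_fst_assoc, Over.w]
        · ext
          exact pullback.lift_fst _ _ _
      · rintro ⟨_, m, _, ⟨⟩, rfl⟩
        refine ⟨P, Over.homMk (m.left ≫ pullback.snd g.left (Sigma.desc E.f)) ?_, d, ⟨⟩, ?_⟩
        · show (m.left ≫ pullback.snd _ _) ≫ Sigma.desc E.f ≫ T.hom = Z.hom
          rw [← Over.w m, Category.assoc, ← pullback.condition_assoc, Over.w]
          rfl
        · ext
          show (m.left ≫ pullback.snd _ _) ≫ Sigma.desc E.f = (m.left ≫ pullback.fst _ _) ≫ g.left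
          rw [Category.assoc, Category.assoc, pullback.condition]
    rw [h1, ← Presieve.isSheafFor_iff_generate]
    exact h _ _ _ hV
  · rintro Y f ⟨_, m, _, ⟨⟩, rfl⟩
    rw [Sieve.pullback_comp]
    refine (Sheaf.finestTopologySingle F).pullback_stable m ((Sheaf.finestTopologySingle F).superset_covering ?_
      (openCover_mem_over hF (T := P) (sigmaOpenCover E.X)))
    rw [Sieve.generate_le_iff]
    rintro W k ⟨i⟩
    refine ⟨Over.mk (E.f i ≫ T.hom), (Over.homMk (𝟙 (E.X i)) ?_ :
      Over.mk (Sigma.ι E.X i ≫ P.hom) ⟶ Over.mk (E.f i ≫ T.hom)), Over.homMk (E.f i) rfl, ⟨i⟩, ?_⟩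
    · show 𝟙 _ ≫ E.f i ≫ T.hom = Sigma.ι E.X i ≫ Sigma.desc E.f ≫ T.hom
      rw [Category.id_comp, Sigma.ι_desc_assoc]
    · ext
      exact (Category.id_comp _).trans (Sigma.ι_desc E.f i).symm

/-- Reduction of the V sheaf property to standard singleton V coverings. -/
theorem isVSheafOver_of_singleton (hF : HTop.IsHSheafOver S F)
    (h : ∀ (U V : Over S) (f : V ⟶ U), HTop.IsStandardV (PreZeroHypercover.singleton.{0} f.left) →
      Presieve.IsSheafFor F (Presieve.singleton f)) : HTop.IsVSheafOver S F := by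
  intro T R hR
  obtain ⟨E, hE, heq⟩ := PreZeroHypercoverFamily.mem_precoverage_iff.1 hR
  refine isSheafFor_of_mem_over ((Sheaf.finestTopologySingle F).superset_covering
    (liftArrows_le heq.ge) ?_)
  let 𝒰 : T.left.OpenCover := T.left.openCoverOfIsOpenCover _ (iSup_affineOpens_eq_top T.left)
  refine (Sheaf.finestTopologySingle F).transitive (openCover_mem_over hF 𝒰) _ ?_
  rintro Y f ⟨_, m, _, ⟨(U : T.left.affineOpens)⟩, rfl⟩
  rw [Sieve.pullback_comp]
  refine (Sheaf.finestTopologySingle F).pullback_stable m ?_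
  obtain ⟨G, hG, href⟩ := hE U
  refine (Sheaf.finestTopologySingle F).superset_covering ?_
    (standardV_mem_over hF h (T := Over.mk ((U : T.left.Opens).ι ≫ T.hom)) (E := G) hG)
  refine (Sieve.generate_le_iff _ _).2 ?_
  rintro W k ⟨j⟩
  obtain ⟨i, l, hl⟩ := href j
  refine ⟨Over.mk (E.f i ≫ T.hom), (Over.homMk l ?_ : Over.mk (G.f j ≫ (U : T.left.Opens).ι ≫ T.hom) ⟶
      Over.mk (E.f i ≫ T.hom)), Over.homMk (E.f i) rfl, ⟨i⟩, ?_⟩
  · show l ≫ E.f i ≫ T.hom = G.f j ≫ (U : T.left.Opens).ι ≫ T.hom
    rw [← Category.assoc, hl, Category.assoc]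
  · ext
    exact hl

end Groth.L28.VTop
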