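import Groth.Agent.L28.VTop.Squares
import Groth.Agent.L22.Ideal
import Groth.Agent.L22.FlatPullback

/-!
# Closed subschemes of the top corner of an almost blow-up square
-/

universe u

open CategoryTheory CategoryTheory.Limits AlgebraicGeometry

namespace Groth.L28.VTop

lemma isBlowUp_of_iso_source {B B' X : Scheme.{u}} (k : B' ≅ B) {b : B ⟶ X} {I : X.IdealSheafData}
    (hb : BlowUp.IsBlowUp b I) : BlowUp.IsBlowUp (k.hom ≫ b) I := by
  refine ⟨?_, fun Y g hY => ?_⟩
  · rw [Scheme.IdealSheafData.comap_comp]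
    exact Groth.L22.Ideals.isEffCartier_comap_of_flat _ hb.1
  · obtain ⟨h, hh, huniq⟩ := hb.2 Y g hY
    refine ⟨h ≫ k.inv, ?_, fun l hl => ?_⟩
    · show (h ≫ k.inv) ≫ k.hom ≫ b = g
      rw [Category.assoc, k.inv_hom_id_assoc, hh]
    · rw [← huniq (l ≫ k.hom) (by show (l ≫ k.hom) ≫ b = g; rw [Category.assoc]; exact hl), Category.assoc,
        k.hom_inv_id, Category.comp_id]

lemma isLocPrincipal_comap {X W : Scheme.{u}} (f : W ⟶ X) {I : X.IdealSheafData} (h : HTop.IsLocPrincipal I) :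
    HTop.IsLocPrincipal (I.comap f) := by
  intro x
  obtain ⟨U, hU, g, hg⟩ := h (f x)
  obtain ⟨V, hV, hxV, hVU⟩ := exists_isAffineOpen_mem_and_subset (X := W) (x := x) (U := f ⁻¹ᵁ U.1) hU
  refine ⟨⟨V, hV⟩, hxV, (f.appLE U.1 V hVU).hom g, ?_⟩
  rw [Groth.L22.Ideals.comap_ideal f I U ⟨V, hV⟩ hVU, hg, Ideal.map_span, Set.image_singleton]

variable {E Z X' X W EW : Scheme.{u}} {e : E ⟶ X'} {π : E ⟶ Z} {b : X' ⟶ X} {i : Z ⟶ X}
  (h : HTop.IsAlmostBlowUpSquare e π b i) (w : W ⟶ X') [IsClosedImmersion w]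

lemma awayFrom_comap : HTop.awayFrom (i.ker.comap (w ≫ b)) = w ⁻¹ᵁ HTop.awayFrom (i.ker.comap b) := by
  ext x
  show x ∉ (i.ker.comap (w ≫ b)).support ↔ w x ∉ (i.ker.comap b).support
  rw [Scheme.IdealSheafData.comap_comp, Scheme.IdealSheafData.support_comap]
  rfl

include h in
theorem isBlowUp_sub (hle : w.ker ≤ HTop.supportedOn (i.ker.comap b)) :
    BlowUp.IsBlowUp ((HTop.supportedOn (i.ker.comap (w ≫ b))).subschemeι ≫ w ≫ b) i.ker := by
  set A := HTop.awayFrom (i.ker.comap b)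
  set K := HTop.supportedOn (i.ker.comap b) with hK
  have hA : IsIso (w ∣_ A) := by
    let j : (A : Scheme.{u}) ⟶ W := IsClosedImmersion.lift w A.ι hle
    have hj : j ≫ w = A.ι := IsClosedImmersion.lift_fac _ _ _
    let s := IsOpenImmersion.lift (w ⁻¹ᵁ A).ι j (by
      rw [Scheme.Opens.range_ι]
      rintro _ ⟨y, rfl⟩
      show w (j y) ∈ A
      rw [← Scheme.Hom.comp_apply, hj]
      exact y.2)
    have hs : s ≫ (w ∣_ A) = 𝟙 _ := by
      rw [← cancel_mono A.ι, Category.assoc, morphismRestrict_ι, IsOpenImmersion.lift_fac_assoc, hj,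
        Category.id_comp]
    haveI : IsClosedImmersion (w ∣_ A) := IsZariskiLocalAtTarget.restrict ‹IsClosedImmersion w› _
    exact ⟨s, (cancel_mono (w ∣_ A)).1 (by rw [Category.assoc, hs, Category.comp_id, Category.id_comp]), hs⟩
  set K' := HTop.supportedOn (i.ker.comap (w ≫ b)) with hK'
  have hker : (K'.subschemeι ≫ w).ker = K.subschemeι.ker := by
    rw [Scheme.Hom.ker_comp, Scheme.IdealSheafData.ker_subschemeι, Scheme.IdealSheafData.ker_subschemeι, hK',
      HTop.supportedOn, awayFrom_comap w, ← Scheme.Hom.ker_comp, ← morphismRestrict_ι]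
    exact Scheme.Hom.ker_comp_of_isIso _ _
  haveI := IsClosedImmersion.isIso_lift K.subschemeι (K'.subschemeι ≫ w) hker.symm
  have := isBlowUp_of_iso_source (asIso (IsClosedImmersion.lift K.subschemeι (K'.subschemeι ≫ w) hker.symm.le))
    h.isBlowUp
  have e : IsClosedImmersion.lift K.subschemeι (K'.subschemeι ≫ w) hker.symm.le ≫ K.subschemeι ≫ b =
      K'.subschemeι ≫ w ≫ b := by
    rw [IsClosedImmersion.lift_fac_assoc, Category.assoc]
  rw [← e]
  exact this

include h in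
theorem isAlmostBlowUpSquare_sub [LocallyOfFinitePresentation w] {eW : EW ⟶ W} {gE : EW ⟶ E}
    (hEW : IsPullback gE eW e w) :
    w.ker ≤ HTop.supportedOn (i.ker.comap b) ↔ HTop.IsAlmostBlowUpSquare eW (gE ≫ π) (w ≫ b) i := by
  haveI := h.isProper
  haveI := h.finitePresentation
  haveI := h.isClosedImmersion
  constructor
  · intro hle
    refine ⟨h.isClosedImmersion, h.finitePresentation_base, hEW.flip.paste_vert h.isPullback, ?_,
      inferInstance, inferInstance, isBlowUp_sub h w hle⟩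
    rw [Scheme.IdealSheafData.comap_comp]
    exact isLocPrincipal_comap w h.locPrincipal
  · intro h'
    have h1 := isIso_restrict_of_almostBlowUp h'
    have h2 := isIso_restrict_of_almostBlowUp h
    rw [morphismRestrict_comp] at h1
    haveI := h1
    haveI := h2
    haveI : IsIso (w ∣_ (b ⁻¹ᵁ i.ker.support.compl) ≫ b ∣_ i.ker.support.compl) := h1
    haveI : IsIso (w ∣_ (b ⁻¹ᵁ i.ker.support.compl)) :=
      IsIso.of_isIso_comp_right _ (b ∣_ i.ker.support.compl)
    have hV : HTop.awayFrom (i.ker.comap b) = b ⁻¹ᵁ i.ker.support.compl := by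
      ext x
      show x ∉ (i.ker.comap b).support ↔ b x ∉ i.ker.support
      rw [Scheme.IdealSheafData.support_comap]
      rfl
    rw [HTop.supportedOn, hV]
    refine le_trans (Scheme.Hom.le_ker_comp (inv (w ∣_ (b ⁻¹ᵁ i.ker.support.compl)) ≫ (w ⁻¹ᵁ (b ⁻¹ᵁ i.ker.support.compl)).ι) w)
      (le_of_eq (congrArg Scheme.Hom.ker ?_))
    rw [Category.assoc, ← morphismRestrict_ι, IsIso.inv_hom_id_assoc]

end Groth.L28.VTop
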